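import Cfsg.Agent.SmallSimple.L33Order.Chars
import Cfsg.Agent.SmallSimple.FiftyForty.Proj
import Cfsg.Agent.SmallSimple.InvolValues
import Cfsg.Agent.SmallSimple.FixedPoints
import Cfsg.Agent.Char.Burnside

/-!
# Elements centralising a Sylow 3-subgroup in a simple group of order 5616
-/

set_option autoImplicit false
set_option linter.style.haveILetI false

namespace CfsgLib.L33Order

open Finset CfsgLib.Char
open scoped ComplexConjugate commutatorElement

universe u

variable {G : Type u} [Group G] [Finite G] [IsSimpleGroup G]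

/-- A value at an element whose class size is prime to the degree vanishes. -/
theorem apply_eq_zero_of_coprime (hG : ¬ IsMulCommutative G) {χ : G → ℂ} (hχ : Cfsg.IsIrrCharacter G χ) {d : ℕ}
    (hd : χ 1 = d) (hd1 : d ≠ 1) {x : G} (hx : x ≠ 1)
    (hcop : Nat.Coprime d (Subgroup.centralizer ({x} : Set G)).index) : χ x = 0 := by
  obtain ⟨n, ρ, hρ, rfl⟩ := hχ
  rw [ρ.char_one] at hd
  have hdn : Module.finrank ℂ (Fin n → ℂ) = d := by exact_mod_cast hd
  refine (char_eq_zero_or_norm_eq ρ x (hdn.symm ▸ hcop)).resolve_right fun h => hd1 ?_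
  have h1 := congrFun (eq_one_of_norm_eq_of_simple (fun hc => hG ⟨⟨hc⟩⟩) ρ hx h) 1
  rw [ρ.char_one, hd] at h1
  exact_mod_cast h1

variable {g : G} {A B : G → ℂ} {C : Fin 4 → G → ℂ} {R : Finset (G → ℂ)}

theorem ne_conj {x : G} (hg : orderOf g = 13) (hx : x ^ 432 = 1) : ¬ IsConj x g := fun hc => by
  obtain ⟨a, ha⟩ := isConj_iff.1 hc
  have h : g ^ 432 = 1 := by rw [← ha, conj_pow, hx, mul_one, mul_inv_cancel]
  have := orderOf_dvd_of_pow_eq_one h
  rw [hg] at this
  norm_num at this

/-- The column of `g` against an element of order prime to 13. -/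
theorem column (D : Decomp g A B C R) (hg : orderOf g = 13) {x : G} (hx : x ^ 432 = 1) :
    1 - A x + B x - C 0 x = 0 := by
  classical
  have h := sum_irr_mul_conj x g
  rw [if_neg (ne_conj hg hx), D.sum_irr] at h
  rw [Finset.sum_eq_zero (s := R) (fun χ hχ => by rw [D.zeroR χ hχ, map_zero, mul_zero]), D.valA, D.valB,
    Finset.sum_congr (s₁ := (Finset.univ : Finset (Fin 4))) rfl (fun i _ => by rw [D.same i x hx]), ← Finset.mul_sum, ← map_sum, D.valC] at h
  simp only [map_one, map_neg, mul_one, mul_neg, add_zero] at h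
  linear_combination h

theorem perfect (hG : ¬ IsMulCommutative G) : commutator G = ⊤ := by
  rcases IsSimpleGroup.eq_bot_or_eq_top_of_normal (commutator G) inferInstance with h | h
  · exfalso
    refine hG ⟨⟨fun a b => ?_⟩⟩
    have h2 : ⁅a, b⁆ ∈ commutator G := by
      rw [_root_.commutator_def]
      exact Subgroup.commutator_mem_commutator (Subgroup.mem_top a) (Subgroup.mem_top b)
    rwa [h, Subgroup.mem_bot, commutatorElement_eq_one_iff_mul_comm] at h2
  · exact h

/-- A centraliser divisible by 27 has index prime to 27. -/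
theorem coprime_index (hn : Nat.card G = 5616) {x : G}
    (h : 27 ∣ Nat.card (Subgroup.centralizer ({x} : Set G))) :
    Nat.Coprime 27 (Subgroup.centralizer ({x} : Set G)).index := by
  obtain ⟨k, hk⟩ := h
  have h2 := (Subgroup.centralizer ({x} : Set G)).card_mul_index
  rw [hn, hk, mul_assoc] at h2
  have h3 : k * (Subgroup.centralizer ({x} : Set G)).index = 208 := by omega
  exact Nat.Coprime.coprime_dvd_right (Dvd.intro_left _ h3) (by norm_num)

/-- No involution centralises a Sylow 3-subgroup. -/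
theorem not_centralizes (hG : ¬ IsMulCommutative G) (hn : Nat.card G = 5616) (D : Decomp g A B C R) {t : G}
    (ht : t * t = 1) (ht1 : t ≠ 1) (h : 27 ∣ Nat.card (Subgroup.centralizer ({t} : Set G))) : False := by
  have hb := apply_eq_zero_of_coprime hG D.irrB (d := 27) (by rw [D.degB]; norm_num) (by norm_num) ht1
    (coprime_index hn h)
  obtain ⟨v, hv, hv4, -, -⟩ := CfsgLib.InvolValues.invol_mod_four (perfect hG)
    (IsIrrCharacter.isCharacter D.irrB) ht (d := 27) (by rw [D.degB]; norm_num)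
  rw [hb] at hv
  have : v = 0 := by exact_mod_cast hv.symm
  subst this
  norm_num at hv4

/-- An integer which is a rational and an algebraic integer. -/
theorem exists_int_of_eq_div {z : ℂ} (hz : IsIntegral ℤ z) {a b : ℤ} (hb : b ≠ 0) (h : (b : ℂ) * z = a) :
    ∃ m : ℤ, z = m ∧ b * m = a := by
  obtain ⟨m, hm⟩ : ∃ m : ℤ, z = m := exists_int_of_fixed hz fun σ => by
    refine mul_left_cancel₀ (Int.cast_ne_zero.2 hb : (b : ℂ) ≠ 0) ?_
    calc (b : ℂ) * σ z = σ ((b : ℂ) * z) := by rw [map_mul, map_intCast]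
      _ = (b : ℂ) * z := by rw [h, map_intCast]
  refine ⟨m, hm, ?_⟩
  rw [hm] at h
  exact_mod_cast h

/-- The number of products of two classes. -/
theorem pairs (hn : Nat.card G = 5616) (D : Decomp g A B C R) {w w' : G} (hw : w ^ 432 = 1) (hw' : w' ^ 432 = 1)
    (hc : Nat.card (Subgroup.centralizer ({w'} : Set G)) = Nat.card (Subgroup.centralizer ({w} : Set G)))
    (hb : B w = 0) :
    ∃ N : ℕ, ((N : ℂ) * (Nat.card (Subgroup.centralizer ({w} : Set G)) : ℂ) ^ 2) =
      117 * (48 - 4 * (A w * A w') - 3 * (C 0 w * C 0 w')) := by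
  classical
  haveI := Fintype.ofFinite G
  refine ⟨Nat.card {p : G × G // IsConj w p.1 ∧ IsConj w' p.2 ∧ p.1 * p.2 = g}, ?_⟩
  have h := card_class_products w w' g
  have hK : ∀ x : G, ((Nat.card {y : G // IsConj x y} : ℂ)) * (Nat.card (Subgroup.centralizer ({x} : Set G)) : ℂ) = 5616 := by
    intro x
    have h2 := card_conj_class_mul_card_centralizer x
    rw [hn] at h2
    exact_mod_cast h2
  have k1 := hK w
  have k2 := hK w'
  rw [hc] at k2
  rw [D.sum_irr, Finset.sum_eq_zero (s := R) (fun χ hχ => by rw [D.zeroR χ hχ, map_zero, mul_zero, zero_div]), D.valA, D.valB,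
    hb, D.degA, Finset.sum_congr (s₁ := (Finset.univ : Finset (Fin 4))) rfl (fun i _ => by rw [D.same i w hw, D.same i w' hw', D.degC]),
    ← Finset.sum_div, ← Finset.mul_sum, ← map_sum, D.valC, hn] at h
  simp only [map_one, map_neg, mul_one, mul_neg, add_zero, zero_mul, zero_div, div_one] at h
  rw [h]
  push_cast
  generalize hP : (1 : ℂ) + -(A w * A w') / 12 + -(C 0 w * C 0 w') / 16 = P
  have hP' : 117 * (48 - 4 * (A w * A w') - 3 * (C 0 w * C 0 w')) = 5616 * P := by rw [← hP]; ring
  rw [hP']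
  linear_combination
    ((Nat.card {y : G // IsConj w' y} : ℂ) * (Nat.card (Subgroup.centralizer ({w} : Set G)) : ℂ) * P / 5616) * k1 +
      P * k2

/-- An element of order dividing 27 centralising a Sylow 3-subgroup. -/
theorem central (hG : ¬ IsMulCommutative G) (hn : Nat.card G = 5616) (D : Decomp g A B C R) (hg : orderOf g = 13)
    (hCg : Nat.card (Subgroup.centralizer ({g} : Set G)) = 13) {w : G}
    (hw : w ^ 27 = 1) (hw1 : w ≠ 1) (h : 27 ∣ Nat.card (Subgroup.centralizer ({w} : Set G))) :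
    A w = 3 ∧ Nat.card (Subgroup.centralizer ({w} : Set G)) = 54 := by
  classical
  haveI : Fact (Nat.Prime 13) := ⟨by norm_num⟩
  haveI := Fintype.ofFinite G
  set Cw := Subgroup.centralizer ({w} : Set G)
  have hw432 : w ^ 432 = 1 := by rw [show (432 : ℕ) = 27 * 16 by norm_num, pow_mul, hw, one_pow]
  have hwi : w⁻¹ ^ 432 = 1 := by rw [inv_pow, hw432, inv_one]
  have hb : B w = 0 := apply_eq_zero_of_coprime hG D.irrB (d := 27) (by rw [D.degB]; norm_num) (by norm_num) hw1
    (coprime_index hn h)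
  set a := A w with ha
  have hl : C 0 w = 1 - a := by have := column D hg hw432; rw [hb] at this; linear_combination -this
  have haI : IsIntegral ℤ a := IsCharacter.isIntegral (IsIrrCharacter.isCharacter D.irrA) w
  have hcai : A w⁻¹ = conj a := IsIrrCharacter.apply_inv D.irrA w
  have hcci : C 0 w⁻¹ = conj (1 - a) := by rw [IsIrrCharacter.apply_inv (D.irrC 0) w, hl]
  have hcent : Subgroup.centralizer ({w⁻¹} : Set G) = Cw := by
    ext y
    simp only [Cw, Subgroup.mem_centralizer_singleton_iff]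
    exact ⟨fun h' => by simpa using (Commute.inv_right (show Commute y w⁻¹ from h')).eq,
      fun h' => (Commute.inv_right (show Commute y w from h')).eq⟩
  obtain ⟨N₁, h1⟩ := pairs hn D hw432 hwi (by rw [hcent]) hb
  obtain ⟨N₂, h2⟩ := pairs hn D hw432 hw432 rfl hb
  rw [hcai, hcci, hl, Complex.mul_conj, Complex.mul_conj] at h1
  rw [hl] at h2
  obtain ⟨k, hk⟩ := h
  -- the norms
  have hX : 48 - 4 * Complex.normSq a - 3 * Complex.normSq (1 - a) = 0 := by
    set X : ℂ := 48 - 4 * (Complex.normSq a : ℂ) - 3 * (Complex.normSq (1 - a) : ℂ) with hXdef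
    have hint : IsIntegral ℤ X := by
      have hc : ∀ z : ℂ, IsIntegral ℤ z → IsIntegral ℤ (conj z) := fun z hz => hz.map (Complex.conjAe.toAlgHom.restrictScalars ℤ)
      have h48 : ∀ n : ℤ, IsIntegral ℤ (n : ℂ) := fun n => isIntegral_algebraMap (x := n)
      rw [hXdef, ← Complex.mul_conj, ← Complex.mul_conj]
      have i1 : IsIntegral ℤ (1 - a) := isIntegral_one.sub haI
      exact ((by simpa using h48 48 : IsIntegral ℤ (48 : ℂ)).sub
        ((by simpa using h48 4 : IsIntegral ℤ (4 : ℂ)).mul (haI.mul (hc _ haI)))).sub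
        ((by simpa using h48 3 : IsIntegral ℤ (3 : ℂ)).mul (i1.mul (hc _ i1)))
    obtain ⟨m, hm, hm'⟩ := exists_int_of_eq_div hint (a := (N₁ : ℤ) * (Nat.card Cw : ℤ) ^ 2) (b := 117)
      (by norm_num) (by rw [hXdef]; push_cast; exact h1.symm)
    have hreal : ((48 - 4 * Complex.normSq a - 3 * Complex.normSq (1 - a) : ℝ) : ℂ) = ((m : ℝ) : ℂ) := by
      push_cast; rw [← hm, hXdef]
    rw [Complex.ofReal_inj] at hreal
    have hle : m ≤ 48 := by
      have : (m : ℝ) ≤ 48 := by rw [← hreal]; nlinarith [Complex.normSq_nonneg a, Complex.normSq_nonneg (1 - a)]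
      exact_mod_cast this
    have h0 : 0 ≤ m := by
      have : (0 : ℤ) ≤ 117 * m := hm' ▸ mul_nonneg (Int.natCast_nonneg _) (sq_nonneg _)
      omega
    have hm0 : m = 0 := by
      rw [hk] at hm'
      push_cast at hm'
      obtain ⟨j, hj⟩ : (81 : ℤ) ∣ 13 * m := ⟨(N₁ : ℤ) * k ^ 2, by nlinarith⟩
      omega
    rw [hreal, hm0, Int.cast_zero]
  -- the value is real
  have him : a.im = 0 := by
    have h2' := congrArg Complex.im h2
    simp only [Complex.mul_im, Complex.mul_re, Complex.sub_re, Complex.sub_im, Complex.natCast_re, Complex.natCast_im,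
      Complex.one_re, Complex.one_im, Complex.re_ofNat, Complex.im_ofNat, pow_two] at h2'
    have h3 : a.im * (14 * a.re - 6) = 0 := by linarith
    rcases mul_eq_zero.1 h3 with h4 | h4
    · exact h4
    · exfalso
      have hsum : IsIntegral ℤ (a + conj a) := haI.add (haI.map (Complex.conjAe.toAlgHom.restrictScalars ℤ))
      obtain ⟨m, -, hm⟩ := exists_int_of_eq_div hsum (a := 6) (b := 7) (by norm_num) (by
        rw [Complex.add_conj]
        apply Complex.ext <;> simp
        linarith)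
      omega
  have hare : a = (a.re : ℂ) := Complex.ext (by simp) (by simp [him])
  have hr : (a.re - 3) * (7 * a.re + 15) = 0 := by
    rw [Complex.normSq_apply, Complex.normSq_apply] at hX
    simp only [Complex.sub_re, Complex.sub_im, Complex.one_re, Complex.one_im, him] at hX
    nlinarith
  have ha3 : a = 3 := by
    rcases mul_eq_zero.1 hr with h4 | h4
    · rw [hare, sub_eq_zero.1 h4]; norm_num
    · exfalso
      obtain ⟨m, -, hm⟩ := exists_int_of_eq_div haI (a := -15) (b := 7) (by norm_num) (by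
        rw [hare]; apply Complex.ext <;> simp; linarith)
      omega
  refine ⟨ha3, ?_⟩
  have hl2 : C 0 w = -2 := by rw [hl, ha3]; norm_num
  -- the class size is divisible by 8
  have h8 : 8 ∣ Cw.index := by
    have := (IsIrrCharacter.isIntegral_class_mul_div (D.irrC 0) w).neg
    rw [hl2, D.degC] at this
    refine dvd_of_isIntegral_div (by norm_num) ?_
    convert this using 1
    push_cast
    ring
  have h13 : ¬ 13 ∣ Nat.card Cw := by
    intro hd
    obtain ⟨x, hx⟩ := exists_prime_orderOf_dvd_card' (G := Cw) 13 hd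
    rw [← Subgroup.orderOf_coe] at hx
    obtain ⟨c, hc⟩ := CfsgLib.FixedPoints.sylow_conj (p := 13) (by rw [hn]; norm_num) hg hx
    have hz : Subgroup.zpowers (c * (x : G) * c⁻¹) = Subgroup.zpowers g :=
      CfsgLib.FixedPoints.zpowers_eq_of_mem hg
        (((MulAut.conj c).orderOf_eq (x : G)).trans hx) hc
    have hcomm : Commute (c * w * c⁻¹) g := by
      obtain ⟨i, hi⟩ := (hz.ge (Subgroup.mem_zpowers g) : g ∈ Subgroup.zpowers (c * (x : G) * c⁻¹))
      rw [← hi]
      refine Commute.zpow_right ?_ i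
      have hxw : Commute w (x : G) := (Subgroup.mem_centralizer_singleton_iff.1 x.2).symm
      exact hxw.map (MulAut.conj c).toMonoidHom
    have h1 := orderOf_dvd_natCard (⟨_, Subgroup.mem_centralizer_singleton_iff.2 hcomm.eq⟩ :
      Subgroup.centralizer ({g} : Set G))
    rw [hCg, Subgroup.orderOf_mk] at h1
    have h2 : orderOf (c * w * c⁻¹) ∣ 27 :=
      ((MulAut.conj c).orderOf_eq w).symm ▸ orderOf_dvd_of_pow_eq_one hw
    have := orderOf_eq_one_iff.1 (Nat.eq_one_of_dvd_coprimes (by norm_num : Nat.Coprime 13 27) h1 h2)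
    exact hw1 (conj_eq_one_iff.1 this)
  have hCI := Cw.card_mul_index
  rw [hn] at hCI
  obtain ⟨i, hi⟩ := h8
  rw [hk, hi] at hCI
  have hk26 : k * i = 26 := by nlinarith
  have hkne : ¬ 13 ∣ k := fun hd => h13 (hk ▸ hd.mul_left 27)
  have hkd : k ∈ Nat.divisors 26 := Nat.mem_divisors.2 ⟨Dvd.intro _ hk26, by norm_num⟩
  have key : ∀ k ∈ Nat.divisors 26, ¬ 13 ∣ k → k = 1 ∨ k = 2 := by decide +kernel
  rcases key k hkd hkne with rfl | rfl
  swap
  · rw [hk]
  exfalso
  rw [mul_one] at hk
  -- a centraliser of order 27 is too small for the norms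
  have e1 := sum_irr_mul_conj w w
  rw [if_pos (IsConj.refl w), hk, D.sum_irr, ← ha, ha3, hb,
    Finset.sum_congr (s₁ := (Finset.univ : Finset (Fin 4))) rfl (fun i _ => by rw [D.same i w hw432, hl2]), Finset.sum_const, Finset.card_univ,
    Fintype.card_fin, Finset.sum_congr rfl (fun χ _ => Complex.mul_conj (χ w))] at e1
  have e2 : ∑ χ ∈ irrFinset G, χ 1 * χ w = 0 := by rw [sum_degree_mul_apply, if_neg hw1]
  rw [D.sum_irr, ← ha, ha3, hb, D.degA, D.degB,
    Finset.sum_congr (s₁ := (Finset.univ : Finset (Fin 4))) rfl (fun i _ => by rw [D.same i w hw432, hl2, D.degC]), Finset.sum_const, Finset.card_univ,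
    Fintype.card_fin] at e2
  have e3 := sum_degree_sq (G := G)
  rw [hn, D.sum_irr, D.degA, D.degB, Finset.sum_congr (s₁ := (Finset.univ : Finset (Fin 4))) rfl (fun i _ => by rw [D.degC]), Finset.sum_const,
    Finset.card_univ, Fintype.card_fin] at e3
  choose! m hm using D.degR
  have hnorm : ∑ χ ∈ R, Complex.normSq (χ w) = 1 := by
    have : ((∑ χ ∈ R, Complex.normSq (χ w) : ℝ) : ℂ) = ((1 : ℝ) : ℂ) := by
      push_cast
      simp [map_ofNat] at e1
      linear_combination e1
    exact_mod_cast this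
  have hd2 : ∑ χ ∈ R, (13 * (m χ : ℝ)) ^ 2 = 3718 := by
    have : ((∑ χ ∈ R, (13 * (m χ : ℝ)) ^ 2 : ℝ) : ℂ) = ((3718 : ℝ) : ℂ) := by
      push_cast
      rw [← Finset.sum_congr rfl fun χ hχ => congrArg (· ^ 2) (hm χ hχ)]
      simp at e3
      linear_combination e3
    exact_mod_cast this
  have hlin : ∑ χ ∈ R, χ 1 * χ w = 91 := by
    simp at e2
    linear_combination e2
  have hb1 : (91 : ℝ) ≤ ∑ χ ∈ R, (13 * (m χ : ℝ)) * ‖χ w‖ := by
    calc (91 : ℝ) = ‖∑ χ ∈ R, χ 1 * χ w‖ := by rw [hlin]; norm_num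
      _ ≤ ∑ χ ∈ R, ‖χ 1 * χ w‖ := norm_sum_le _ _
      _ = _ := Finset.sum_congr rfl fun χ hχ => by rw [hm χ hχ, norm_mul, norm_mul, Complex.norm_natCast]; norm_num
  have hcs := Finset.sum_mul_sq_le_sq_mul_sq R (fun χ => 13 * (m χ : ℝ)) (fun χ => ‖χ w‖)
  simp only [hd2, Complex.sq_norm, hnorm] at hcs
  nlinarith

/-- The value at an element of order three of the normaliser of a Sylow 13-subgroup. -/
theorem apply_A_eq_zero (D : Decomp g A B C R) (hg : orderOf g = 13) {y : G} (hy : y * g * y⁻¹ = g ^ 3) :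
    A y = 0 := by
  have hg13 : g ^ 13 = 1 := hg ▸ pow_orderOf_eq_one g
  haveI : Fact (Nat.Prime 13) := ⟨by norm_num⟩
  have hcl := IsIrrCharacter.isClassFunction D.irrA
  have hpow : ∀ m : ℕ, g ^ m = g ^ (m % 13) := fun m => hg ▸ (pow_mod_orderOf g m).symm
  have h9 : y⁻¹ * g * y = g ^ 9 := by
    calc y⁻¹ * g * y = y⁻¹ * g ^ 27 * y := by rw [hpow 27]; norm_num
      _ = y⁻¹ * (g ^ 3) ^ 9 * y := by rw [← pow_mul]
      _ = y⁻¹ * (y * g * y⁻¹) ^ 9 * y := by rw [hy]
      _ = g ^ 9 := by rw [conj_pow]; group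
  have hmove : ∀ i : ℕ, g ^ i * y = y * g ^ (9 * i) := fun i => by
    have : y⁻¹ * g ^ i * y = g ^ (9 * i) := by
      rw [pow_mul, ← h9]
      simpa using (conj_pow (a := y⁻¹) (b := g) (i := i)).symm
    rw [← this]; group
  have hconst : ∀ j : ℕ, A (y * g ^ j) = A y := fun j => by
    have h := hcl y (g ^ (5 * j))
    rw [hmove] at h
    rw [← h]
    congr 1
    rw [mul_assoc]
    congr 1
    rw [eq_mul_inv_iff_mul_eq, ← pow_add, hpow (j + 5 * j), hpow (9 * (5 * j))]
    congr 1
    omega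
  have hfix := D.fixedA
  obtain ⟨n, ρ, hρ, hA⟩ := D.irrA
  subst hA
  set e : Module.End ℂ (Fin n → ℂ) := (13 : ℂ)⁻¹ • ∑ j : ZMod 13, ρ (g ^ j.val) with he
  have habs : ∀ k : ZMod 13, ρ (g ^ k.val) * e = e := fun k => by
    rw [he, mul_smul_comm, Finset.mul_sum]
    congr 1
    refine Fintype.sum_equiv (Equiv.addLeft k) _ _ fun j => ?_
    rw [Equiv.coe_addLeft, CfsgLib.ColumnData.pow_val_add hg, map_mul]
  have hee : e * e = e := by
    conv_lhs => arg 1; rw [he]
    rw [smul_mul_assoc, Finset.sum_mul, Finset.sum_congr rfl (fun k _ => habs k), Finset.sum_const,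
      Finset.card_univ, ZMod.card, ← Nat.cast_smul_eq_nsmul ℂ, smul_smul]
    norm_num
  have htr : LinearMap.trace ℂ (Fin n → ℂ) e = 0 := by
    rw [he, map_smul, map_sum]
    show (13 : ℂ)⁻¹ • ∑ j : ZMod 13, ρ.character (g ^ j.val) = 0
    rw [hfix, smul_zero]
  have he0 : e = 0 := by
    obtain ⟨V, hV⟩ := (LinearMap.isProj_iff_isIdempotentElem e).mpr hee
    have h0 : Module.finrank ℂ V = 0 := by
      have := hV.trace.symm.trans htr
      exact_mod_cast this
    refine LinearMap.ext fun v => ?_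
    have hv := hV.map_mem v
    rw [Submodule.finrank_eq_zero.1 h0, Submodule.mem_bot] at hv
    simpa using hv
  have h0 : LinearMap.trace ℂ (Fin n → ℂ) (ρ y * e) = 0 := by rw [he0, mul_zero, map_zero]
  rw [he, mul_smul_comm, Finset.mul_sum, map_smul, map_sum,
    Finset.sum_congr rfl (fun j _ => (show LinearMap.trace ℂ (Fin n → ℂ) (ρ y * ρ (g ^ j.val)) = ρ.character y by
      rw [← map_mul]; exact hconst j.val)), Finset.sum_const, Finset.card_univ, ZMod.card] at h0
  simpa using h0

end CfsgLib.L33Order
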