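import Cfsg.Agent.GLTwoThree.L33.Perm

/-!
# Involutions of thirteen points without excluded periods
-/

set_option autoImplicit false
set_option maxRecDepth 100000

namespace CfsgLib.L33Order

open CfsgLib.GLTwoThree.Thirteen

/-- A point of period 5, 7, 10 or 11. -/
def bad (f : ZMod 13 → ZMod 13) : Bool :=
  univList.any fun x =>
    ((f^[5] x == x || f^[7] x == x || f^[11] x == x) && f x != x) || (f^[10] x == x && f (f x) != x)

theorem bad_eq_false {p : Equiv.Perm (ZMod 13)} {f : ZMod 13 → ZMod 13} (hp : ∀ i, p i = f i) (h : p ^ 5616 = 1) :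
    bad f = false := by
  obtain rfl : ⇑p = f := funext hp
  have hper : ∀ x, Function.IsPeriodicPt p 5616 x := fun x => by
    show (⇑p)^[5616] x = x
    rw [← Equiv.Perm.coe_pow, h, Equiv.Perm.coe_one, id]
  have hg : ∀ {k : ℕ} {x}, (⇑p)^[k] x = x → (⇑p)^[Nat.gcd 5616 k] x = x := fun {k x} hk =>
    Function.IsPeriodicPt.gcd (hper x) hk
  simp only [bad, List.any_eq_false, Bool.or_eq_true, Bool.and_eq_true, beq_iff_eq, bne_iff_ne, ne_eq]
  rintro x - (⟨(hx | hx) | hx, hne⟩ | ⟨hx, hne⟩)
  · exact hne (hg hx)
  · exact hne (hg hx)
  · exact hne (hg hx)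
  · exact hne (hg hx)

/-- Not an involution, a conjugate of the standard one, the identity, or a forbidden period in a word. -/
def classified₂ (a b c d : ZMod 13) : Bool :=
  univList.any (fun i => vfun a b c d (vfun a b c d i) != i) ||
  univList.any (fun m => univList.any fun m' => m * m' == 1 &&
    univList.all (fun i => m * vfun a b c d (m' * i) == std i)) ||
  univList.all (fun i => vfun a b c d i == i) ||
  univList.any (fun i => bad (fun x => vfun a b c d x + i)) ||
  univList.any (fun i => univList.any fun j => bad (fun x => vfun a b c d (vfun a b c d x + i) + j))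

theorem classified₂_all : univList.all (fun a => univList.all fun b => univList.all fun c =>
    univList.all fun d => classified₂ a b c d) = true := by
  decide +kernel

end CfsgLib.L33Order
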