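import Cfsg.Agent.SmallSimple.L33Order.Local
import Cfsg.Agent.SmallSimple.L33Order.Perm

/-!
# Simple groups of order 5616 are isomorphic
-/

set_option autoImplicit false
set_option linter.style.haveILetI false
set_option synthInstance.maxSize 4000

namespace CfsgLib.L33Order

open Subgroup MulAction CfsgLib.GLTwoThree.Thirteen

universe u

variable {G : Type u} [Group G] [Finite G] [IsSimpleGroup G]

/-- The normaliser of an element of order thirteen. -/
theorem normaliser_thirteen (hG : ¬ IsMulCommutative G) (hn : Nat.card G = 5616) {x : G} (hx : orderOf x = 13) :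
    Nat.card (normalizer ((zpowers x : Subgroup G) : Set G)) = 39 := by
  haveI : Fact (Nat.Prime 13) := ⟨by norm_num⟩
  obtain ⟨g, -, -, -, -, -, hg, -, hN, -, -, -⟩ := exists_setup hG hn
  obtain ⟨a, ha⟩ := CfsgLib.FixedPoints.sylow_conj (p := 13) (by rw [hn]; norm_num) hg hx
  have hz := CfsgLib.FixedPoints.zpowers_eq_of_mem hg (((MulAut.conj a).orderOf_eq x).trans hx) ha
  rw [← hN, ← hz]
  have hmap : (zpowers x).map (MulAut.conj a).toMonoidHom = zpowers (MulAut.conj a x) := MonoidHom.map_zpowers _ x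
  rw [← hmap]
  have h := Subgroup.map_equiv_normalizer_eq (zpowers x) (MulAut.conj a)
  exact (Nat.card_congr (equivMapOfInjective _ _ (MulAut.conj a).injective).toEquiv).trans (congrArg (fun H : Subgroup G => Nat.card H) h)

/-- A standard embedding in the symmetric group of degree thirteen. -/
theorem exists_embedding (hG : ¬ IsMulCommutative G) (hn : Nat.card G = 5616) : ∃ ι : G →* Equiv.Perm (ZMod 13),
    Function.Injective ι ∧ c0 ∈ ι.range ∧ y0 ∈ ι.range ∧ v0 ∈ ι.range := by
  classical
  haveI : Fact (Nat.Prime 13) := ⟨by norm_num⟩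
  haveI : Fact (Nat.Prime 3) := ⟨by norm_num⟩
  obtain ⟨x, y, A, B, C, R, hx, hcx, -, hy3, hyx, D⟩ := exists_setup hG hn
  obtain ⟨⟨K, hK⟩, v, hvv, hv1, hv⟩ := exists_index hG hn D hx hcx hy3 (apply_A_eq_zero D hx hyx)
  have hKtop : K ≠ ⊤ := fun h => by rw [h, index_top] at hK; norm_num at hK
  have hKc : Nat.card K = 432 := by
    have := K.card_mul_index
    rw [hK, hn] at this
    omega
  have hx13 : x ^ 13 = 1 := by rw [← hx]; exact pow_orderOf_eq_one x
  have hy33 : y ^ 3 = 1 := by rw [← hy3, pow_orderOf_eq_one]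
  have hy1 : y ≠ 1 := fun e => by rw [e, orderOf_one] at hy3; norm_num at hy3
  have hcardΩ : Nat.card (G ⧸ K) = 13 := by rw [← index_eq_card, hK]
  haveI := Fintype.ofFinite (G ⧸ K)
  -- `x` fixes no point
  have hxfix : ∀ (ω : G ⧸ K) (m : ℕ), ¬ 13 ∣ m → x ^ m • ω ≠ ω := by
    intro ω m hm he
    obtain ⟨c, rfl⟩ := QuotientGroup.mk_surjective ω
    have h1 : c⁻¹ * (x ^ m * c) ∈ K := QuotientGroup.eq.1 he.symm
    have h2 := orderOf_dvd_natCard (⟨_, h1⟩ : K)
    rw [hKc, Subgroup.orderOf_mk] at h2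
    have h3 : orderOf (c⁻¹ * (x ^ m * c)) = 13 := by
      rw [show c⁻¹ * (x ^ m * c) = MulAut.conj c⁻¹ (x ^ m) by simp [mul_assoc], MulEquiv.orderOf_eq,
        orderOf_pow, hx, Nat.Coprime.gcd_eq_one
          ((Nat.Prime.coprime_iff_not_dvd (by norm_num)).2 hm), Nat.div_one]
    rw [h3] at h2
    norm_num at h2
  obtain ⟨b, hb⟩ : ∃ b : G ⧸ K, y • b = b := by
    by_contra h
    push Not at h
    have h2 := Equiv.Perm.card_compl_support_modEq (p := 3) (n := 1)
      (σ := MulAction.toPermHom G (G ⧸ K) y)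
      (by rw [pow_one, ← map_pow, hy33, map_one])
    have he : ((MulAction.toPermHom G (G ⧸ K) y).support)ᶜ = (∅ : Finset _) := by
      ext W
      simp only [Finset.mem_compl, Equiv.Perm.mem_support, not_not, Finset.notMem_empty, iff_false]
      exact h W
    rw [he, Finset.card_empty, ← Nat.card_eq_fintype_card, hcardΩ] at h2
    simp [Nat.ModEq] at h2
  -- the labelling
  let f : ZMod 13 → G ⧸ K := fun i => x ^ i.val • b
  have hpow : ∀ {m m' : ℕ}, (m : ZMod 13) = (m' : ZMod 13) → x ^ m = x ^ m' := fun {m m'} h =>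
    pow_eq_pow_iff_modEq.2 (by rw [hx]; exact (ZMod.natCast_eq_natCast_iff _ _ _).1 h)
  have hf : Function.Injective f := by
    intro i j h
    by_contra hne
    refine hxfix b ((i - j).val) ?_ ?_
    · intro hd
      refine hne (sub_eq_zero.1 ?_)
      rw [← ZMod.natCast_zmod_val (i - j)]
      exact (ZMod.natCast_eq_zero_iff _ _).2 hd
    · refine smul_left_cancel (x ^ j.val) ?_
      rw [smul_smul, ← pow_add]
      rw [hpow (m := j.val + (i - j).val) (m' := i.val) (by push_cast [ZMod.natCast_zmod_val]; ring)]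
      exact h
  have hbij : Function.Bijective f := (Fintype.bijective_iff_injective_and_card f).2 ⟨hf, by
    rw [← Nat.card_eq_fintype_card, ← Nat.card_eq_fintype_card, hcardΩ, Nat.card_zmod]⟩
  let e := Equiv.ofBijective f hbij
  have hinj0 : Function.Injective (MulAction.toPermHom G (G ⧸ K)) := by
    rw [← MonoidHom.ker_eq_bot_iff, ← normalCore_eq_ker]
    exact (IsSimpleGroup.eq_bot_or_eq_top_of_normal K.normalCore inferInstance).resolve_right
      fun e => hKtop (top_unique (e ▸ normalCore_le K))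
  let ι : G →* Equiv.Perm (ZMod 13) :=
    e.symm.permCongrHom.toMonoidHom.comp (MulAction.toPermHom G (G ⧸ K))
  have hinj : Function.Injective ι := e.symm.permCongrHom.injective.comp hinj0
  have hι : ∀ (a : G) (i j : ZMod 13), a • f i = f j → ι a i = j := fun a i j h => by
    change e.symm (a • e i) = j
    rw [Equiv.symm_apply_eq]
    exact h
  have hιx : ι x = c0 := Equiv.ext fun i => hι x i _ (by
    change x • (x ^ i.val • b) = x ^ (i + 1).val • b
    rw [smul_smul, ← pow_succ']
    congr 1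
    exact hpow (by push_cast [ZMod.natCast_zmod_val]; ring))
  have hyconj : ∀ m : ℕ, y * x ^ m = x ^ (3 * m) * y := fun m => by
    rw [pow_mul, ← hyx, conj_pow, inv_mul_cancel_right]
  have hιy : ι y = y0 := Equiv.ext fun i => hι y i _ (by
    change y • (x ^ i.val • b) = x ^ (3 * i).val • b
    rw [smul_smul, hyconj, mul_smul, hb]
    congr 1
    exact hpow (by push_cast [ZMod.natCast_zmod_val]; ring))
  -- an involution inverting `y`
  have hv3 : ∀ i, ι v (3 * i) = 9 * ι v i := fun i => by
    have h : ι v * ι y = (ι y)⁻¹ * ι v := by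
      rw [← map_inv, ← map_mul, ← map_mul, ← hv, inv_mul_cancel_right]
    rw [hιy] at h
    exact Equiv.Perm.ext_iff.1 h i
  have hv0 : ι v 0 = 0 := by
    have h := hv3 0
    rw [mul_zero] at h
    have h2 : (8 : ZMod 13) * ι v 0 = 0 := by linear_combination -h
    exact (mul_eq_zero.1 h2).resolve_left fun h8 =>
      (show ¬ ((8 : Fin 13) = 0) by decide) h8
  have hvf : ⇑(ι v) = vfun (ι v 1) (ι v 2) (ι v 4) (ι v 7) := eq_vfun hv0 hv3
  have h5616 : ∀ a : G, (ι a) ^ 5616 = 1 := fun a => by rw [← map_pow, ← hn, pow_card_eq_one', map_one]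
  have hcls := classified₂_all
  simp only [List.all_eq_true] at hcls
  have hc := hcls (ι v 1) (mem_univList _) (ι v 2) (mem_univList _) (ι v 4) (mem_univList _)
    (ι v 7) (mem_univList _)
  simp only [classified₂, Bool.or_eq_true, List.any_eq_true, Bool.and_eq_true, bne_iff_ne,
    beq_iff_eq, List.all_eq_true] at hc
  rcases hc with (((⟨i, -, hne⟩ | ⟨m, -, m', -, hmm, hm⟩) | hid) | ⟨i, -, hord⟩) | ⟨i, -, j, -, hord⟩
  · exfalso
    rw [← hvf, ← Equiv.Perm.mul_apply, ← map_mul, hvv, map_one] at hne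
    exact hne rfl
  · let σ : Equiv.Perm (ZMod 13) := ⟨fun i => m * i, fun i => m' * i,
      fun i => by simp only [← mul_assoc, mul_comm m' m, hmm, one_mul],
      fun i => by simp only [← mul_assoc, hmm, one_mul]⟩
    let ι' : G →* Equiv.Perm (ZMod 13) := (MulAut.conj σ).toMonoidHom.comp ι
    have hι' : ∀ a i, ι' a i = m * ι a (m' * i) := fun a i => rfl
    refine ⟨ι', (MulAut.conj σ).injective.comp hinj, ⟨x ^ m'.val, ?_⟩, ⟨y, ?_⟩, ⟨v, ?_⟩⟩
    · refine Equiv.ext fun i => ?_
      rw [hι', map_pow, hιx, c0_pow, ZMod.natCast_zmod_val]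
      change m * (m' * i + m') = i + 1
      linear_combination (i + 1) * hmm
    · refine Equiv.ext fun i => ?_
      rw [hι', hιy]
      change m * (3 * (m' * i)) = 3 * i
      linear_combination 3 * i * hmm
    · refine Equiv.ext fun i => ?_
      rw [hι', hvf]
      exact hm i (mem_univList i)
  · exfalso
    refine hv1 (hinj ?_)
    rw [map_one]
    refine Equiv.ext fun i => ?_
    rw [hvf]
    exact hid i (mem_univList i)
  · exfalso
    have h := bad_eq_false (p := ι (x ^ i.val * v))
      (f := fun z => vfun (ι v 1) (ι v 2) (ι v 4) (ι v 7) z + i) (fun z => by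
        rw [map_mul, map_pow, hιx, Equiv.Perm.mul_apply, c0_pow, ZMod.natCast_zmod_val]
        exact congrArg (· + i) (congrFun hvf z)) (h5616 _)
    rw [h] at hord
    exact Bool.noConfusion hord
  · exfalso
    have h := bad_eq_false (p := ι (x ^ j.val * (v * (x ^ i.val * v))))
      (f := fun z => vfun (ι v 1) (ι v 2) (ι v 4) (ι v 7) (vfun (ι v 1) (ι v 2) (ι v 4) (ι v 7) z + i) + j) (fun z => by
        simp only [map_mul, map_pow, hιx, Equiv.Perm.mul_apply, c0_pow, ZMod.natCast_zmod_val]
        rw [← hvf]) (h5616 _)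
    rw [h] at hord
    exact Bool.noConfusion hord

/-- The standard group is the image. -/
theorem nonempty_equiv_stdGroup (hG : ¬ IsMulCommutative G) (hn : Nat.card G = 5616) :
    Nonempty (G ≃* stdGroup) := by
  haveI : Fact (Nat.Prime 13) := ⟨by norm_num⟩
  obtain ⟨ι, hinj, ⟨x, hx⟩, ⟨y, hy⟩, ⟨v, hv⟩⟩ := exists_embedding hG hn
  set L := stdGroup.comap ι with hL
  have hle : stdGroup ≤ ι.range := (closure_le _).2 (by
    rintro s (rfl | rfl | rfl)
    exacts [⟨x, hx⟩, ⟨y, hy⟩, ⟨v, hv⟩])
  suffices h : L = ⊤ by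
    have he : ι.range = stdGroup := le_antisymm (by
      rintro _ ⟨a, rfl⟩
      exact mem_comap.1 (h ▸ mem_top a : a ∈ L)) hle
    exact ⟨(MonoidHom.ofInjective hinj).trans (MulEquiv.subgroupCongr he)⟩
  by_contra hne
  have hxL : x ∈ L := mem_comap.2 (hx ▸ subset_closure (Set.mem_insert _ _))
  have hyL : y ∈ L := mem_comap.2
    (hy ▸ subset_closure (Set.mem_insert_of_mem _ (Set.mem_insert _ _)))
  have hvL : v ∈ L := mem_comap.2
    (hv ▸ subset_closure (Set.mem_insert_of_mem _ (Set.mem_insert_of_mem _ rfl)))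
  have hord : ∀ {a : G} {p : Equiv.Perm (ZMod 13)}, ι a = p → a ∈ L →
      orderOf p ∣ Nat.card L := fun {a p} h ha => by
    have := orderOf_dvd_natCard (⟨a, ha⟩ : L)
    rwa [Subgroup.orderOf_mk, ← orderOf_injective ι hinj, h] at this
  have h13 : 13 ∣ Nat.card L := orderOf_c0 ▸ hord hx hxL
  have h3 : 3 ∣ Nat.card L := orderOf_y0 ▸ hord hy hyL
  have h8 : 8 ∣ Nat.card L := by
    have key : ∀ n : ℕ, ι (x ^ n * v) = c0 ^ n * v0 := fun n => by rw [map_mul, map_pow, hx, hv]
    have hm : ∀ n : ℕ, x ^ n * v ∈ L := fun n => L.mul_mem (L.pow_mem hxL n) hvL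
    rcases orderOf_eight with h | h | h | h | h <;> rw [← h]
    · have := hord (key 1) (hm 1); rwa [pow_one] at this
    · exact hord (key 2) (hm 2)
    · exact hord (key 3) (hm 3)
    · exact hord (key 4) (hm 4)
    · exact hord (key 5) (hm 5)
  obtain ⟨c, hc⟩ : 312 ∣ Nat.card L :=
    Nat.Coprime.mul_dvd_of_dvd_of_dvd (by norm_num : Nat.Coprime 24 13)
      (Nat.Coprime.mul_dvd_of_dvd_of_dvd (by norm_num : Nat.Coprime 8 3) h8 h3) h13
  have hmul := L.index_mul_card
  rw [hn, hc] at hmul
  have hfac := CfsgLib.SmallSimple.card_dvd_factorial L hne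
  rw [hn] at hfac
  have hidx : 13 ≤ L.index := by
    have h := (Nat.Prime.dvd_factorial (by norm_num : Nat.Prime 13)).1
      (dvd_trans (by norm_num : 13 ∣ 5616) hfac)
    exact h
  have hc1 : c = 1 := by
    have hc18 : L.index * c = 18 := by
      have : 312 * (L.index * c) = 312 * 18 := by linarith
      exact Nat.eq_of_mul_eq_mul_left (by norm_num) this
    rcases Nat.eq_zero_or_pos c with rfl | hpos
    · simp at hc18
    · by_contra hne1
      have : 2 ≤ c := by omega
      have := Nat.mul_le_mul hidx this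
      omega
  rw [hc1, mul_one] at hc
  -- the subgroup of order thirteen is normal in `L`
  have hox : orderOf x = 13 := by rw [← orderOf_injective ι hinj, hx, orderOf_c0]
  let P : Sylow 13 L := Sylow.ofCard (zpowers (⟨x, hxL⟩ : L)) (by
    rw [Nat.card_zpowers, Subgroup.orderOf_mk, hox, hc, show (312 : ℕ) = 13 * 24 by norm_num,
      Nat.factorization_mul (by norm_num) (by norm_num), Finsupp.add_apply,
      Nat.Prime.factorization_self (by norm_num),
      Nat.factorization_eq_zero_of_not_dvd (show ¬ 13 ∣ 24 by norm_num)]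
    norm_num)
  have hone : Nat.card (Sylow 13 L) = 1 := by
    have h1 : Nat.card (Sylow 13 L) ∣ 24 := by
      have := P.card_dvd_index
      have hi := (P : Subgroup L).index_mul_card
      rw [show Nat.card (P : Subgroup L) = 13 from by
        rw [show (P : Subgroup L) = zpowers (⟨x, hxL⟩ : L) from rfl, Nat.card_zpowers,
          Subgroup.orderOf_mk, hox], hc] at hi
      rwa [show (P : Subgroup L).index = 24 by omega] at this
    have hmem : Nat.card (Sylow 13 L) ∈ Nat.divisors 24 := Nat.mem_divisors.2 ⟨h1, by norm_num⟩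
    have key : ∀ n ∈ Nat.divisors 24, n % 13 = 1 → n = 1 := by decide
    exact key _ hmem (card_sylow_modEq_one 13 L)
  have hLN : L ≤ normalizer ((zpowers x : Subgroup G) : Set G) := by
    haveI : Subsingleton (Sylow 13 L) := (Nat.card_eq_one_iff_unique.1 hone).1
    intro a ha
    refine mem_norm fun z hz => ?_
    obtain ⟨k, rfl⟩ := hz
    simp only
    have hn : (P : Subgroup L).Normal := inferInstance
    obtain ⟨j, hj⟩ := hn.conj_mem (⟨x, hxL⟩ ^ k) (zpow_mem (mem_zpowers _) k) ⟨a, ha⟩
    refine ⟨j, ?_⟩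
    have := congrArg Subtype.val hj
    simpa using this
  have := Subgroup.card_dvd_of_le hLN
  rw [(normaliser_thirteen hG hn hox), hc] at this
  norm_num at this

/-- Simple groups of order 5616 are isomorphic. -/
theorem nonempty_mulEquiv {H : Type*} [Group H] [Finite H] [IsSimpleGroup H] (hG : ¬ IsMulCommutative G)
    (hn : Nat.card G = 5616) (hH : ¬ IsMulCommutative H) (hm : Nat.card H = 5616) : Nonempty (G ≃* H) := by
  obtain ⟨e⟩ := nonempty_equiv_stdGroup hG hn
  obtain ⟨f⟩ := nonempty_equiv_stdGroup hH hm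
  exact ⟨e.trans f.symm⟩

end CfsgLib.L33Order
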