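import Cfsg.Agent.SmallSimple.L33Order.Table
import Cfsg.Agent.SmallSimple.ColumnData
import Cfsg.Agent.Char.ClassProducts

/-!
# The characters of a simple group of order 5616 not vanishing on an element of order thirteen
-/

set_option autoImplicit false
set_option linter.style.haveILetI false

namespace CfsgLib.L33Order

open Finset CfsgLib.Char CfsgLib.ColumnData
open scoped ComplexConjugate

universe u

variable {G : Type u} [Group G] [Finite G]

/-- The six characters not vanishing on `g`, and the rest. -/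
structure Decomp (g : G) (A B : G → ℂ) (C : Fin 4 → G → ℂ) (R : Finset (G → ℂ)) : Prop where
  irrA : Cfsg.IsIrrCharacter G A
  irrB : Cfsg.IsIrrCharacter G B
  irrC : ∀ i, Cfsg.IsIrrCharacter G (C i)
  irrR : ∀ χ ∈ R, Cfsg.IsIrrCharacter G χ
  degA : A 1 = 12
  degB : B 1 = 27
  degC : ∀ i, C i 1 = 16
  degR : ∀ χ ∈ R, ∃ m : ℕ, χ 1 = 13 * (m : ℂ)
  valA : A g = -1
  valB : B g = 1
  valC : ∑ i, C i g = -1
  zeroR : ∀ χ ∈ R, χ g = 0
  sum_irr : ∀ F : (G → ℂ) → ℂ,
    ∑ χ ∈ irrFinset G, F χ = F (fun _ => 1) + F A + F B + ∑ i, F (C i) + ∑ χ ∈ R, F χ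
  same : ∀ i (x : G), x ^ 432 = 1 → C i x = C 0 x
  fixedA : ∑ j : ZMod 13, A (g ^ j.val) = 0

/-- The multiplicity of a root in a code. -/
def entry : Code → ZMod 13 → ℕ
  | (a, b, c, d, e), i => [a, b, c, b, d, c, c, e, e, b, d, e, d].getD i.val 0

theorem deg_cases : ∀ d ∈ List.range 75, 2 ≤ d → 5616 % d = 0 → d ∈ degs := by decide +kernel

theorem entry_A : ∀ b : ZMod 13, entry (0, 1, 1, 1, 1) b + (if b = 0 then 1 else 0) = 1 := by decide +kernel

theorem entry_B : ∀ b : ZMod 13, entry (3, 2, 2, 2, 2) b = 2 + (if b = 0 then 1 else 0) := by decide +kernel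

theorem entry_C : ∀ b : ZMod 13, entry (1, 1, 1, 1, 2) b + entry (1, 1, 1, 2, 1) b + entry (1, 1, 2, 1, 1) b +
    entry (1, 2, 1, 1, 1) b + (if b = 0 then 1 else 0) = 5 := by decide +kernel

theorem twist_fact : (2 : ZMod 13)⁻¹.val = 865 % 13 := by decide +kernel

theorem residue_facts : (3 : ZMod 13) ≠ 0 ∧ (2 : ZMod 13)⁻¹ ≠ 0 ∧ (2 : ZMod 13)⁻¹ * 2 = 1 ∧
    (2 : ZMod 13)⁻¹ * 4 = 2 ∧ (2 : ZMod 13)⁻¹ * 8 = 4 ∧ (2 : ZMod 13)⁻¹ * 3 = 8 := by decide +kernel

theorem exists_decomp [IsSimpleGroup G] (hG : ¬ IsMulCommutative G) (hn : Nat.card G = 5616) {g : G}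
    (hg : orderOf g = 13) (hC : Nat.card (Subgroup.centralizer ({g} : Set G)) = 13)
    (hh : ∃ h : G, h * g * h⁻¹ = g ^ 3) :
    ∃ (A B : G → ℂ) (C : Fin 4 → G → ℂ) (R : Finset (G → ℂ)), Decomp g A B C R := by
  classical
  haveI := Fintype.ofFinite G
  haveI : Fact (Nat.Prime 13) := ⟨by norm_num⟩
  obtain ⟨h, hh⟩ := hh
  set triv : G → ℂ := fun _ => 1 with htriv
  set S : Finset (G → ℂ) := (irrFinset G).erase triv with hS
  have hirr : ∀ χ ∈ S, Cfsg.IsIrrCharacter G χ := fun χ hχ => mem_irrFinset.1 (Finset.mem_of_mem_erase hχ)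
  have hone : triv ∈ irrFinset G := mem_irrFinset.2 isIrrCharacter_one
  choose! c hc using fun χ (hχ : χ ∈ S) => exists_count hg (IsIrrCharacter.isCharacter (hirr χ hχ))
  set code : (G → ℂ) → Code := fun χ => (c χ 0, c χ 1, c χ 2, c χ 4, c χ 8) with hcode
  have h3 : ∀ χ ∈ S, ∀ k : ZMod 13, c χ (3 * k) = c χ k := fun χ hχ =>
    count_pow hg (hc χ hχ) (hc χ hχ) residue_facts.1 fun j => by
      rw [pow_val_mul hg, show (3 : ZMod 13).val = 3 from rfl, ← hh, conj_pow,
        IsCharacter.isClassFunction (IsIrrCharacter.isCharacter (hirr χ hχ))]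
  have hentry : ∀ χ ∈ S, ∀ b : ZMod 13, c χ b = entry (code χ) b := by
    intro χ hχ
    have e : ∀ {k l : ZMod 13}, 3 * k = l → c χ l = c χ k := fun {k l} hkl => hkl ▸ h3 χ hχ k
    have e3 := e (show (3 : ZMod 13) * 1 = 3 by rfl)
    have e9 := (e (show (3 : ZMod 13) * 3 = 9 by rfl)).trans e3
    have e6 := e (show (3 : ZMod 13) * 2 = 6 by rfl)
    have e5 := (e (show (3 : ZMod 13) * 6 = 5 by rfl)).trans e6
    have e12 := e (show (3 : ZMod 13) * 4 = 12 by rfl)
    have e10 := (e (show (3 : ZMod 13) * 12 = 10 by rfl)).trans e12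
    have e11 := e (show (3 : ZMod 13) * 8 = 11 by rfl)
    have e7 := (e (show (3 : ZMod 13) * 11 = 7 by rfl)).trans e11
    intro b
    revert b
    show ∀ b : Fin 13, c χ b = entry (code χ) b
    intro b
    fin_cases b <;> first
      | rfl | exact e3 | exact e5 | exact e6 | exact e7 | exact e9 | exact e10 | exact e11 | exact e12
  have hall : ∀ (χ : G → ℂ) (_ : χ ∈ S) (F : ℕ → ℤ),
      ∑ b : ZMod 13, F (c χ b) = F (code χ).1 + 3 * (F (code χ).2.1 + F (code χ).2.2.1 + F (code χ).2.2.2.1 +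
        F (code χ).2.2.2.2) := by
    intro χ hχ F
    rw [Finset.sum_congr rfl fun b _ => by rw [hentry χ hχ b]]
    show ∑ b : Fin 13, F (entry (code χ) b) = _
    simp only [Fin.sum_univ_succ, Fin.sum_univ_zero, entry, hcode]
    simp [List.getD, ZMod.val]
    ring
  have hdeg : ∀ χ ∈ S, χ 1 = (cdeg (code χ) : ℂ) := by
    intro χ hχ
    rw [sum_count hg (hc χ hχ)]
    congr 1
    have := hall χ hχ (fun a => (a : ℤ))
    push_cast at this
    simp only [hcode, cdeg] at this ⊢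
    exact_mod_cast this
  have hwt : ∀ χ ∈ S, (cwt (code χ) : ℂ) =
      (∑ j : ZMod 13, χ (g ^ j.val) * conj (χ (g ^ j.val))) - χ 1 ^ 2 := by
    intro χ hχ
    rw [sum_sq hg (hc χ hχ), hdeg χ hχ]
    have h2 := congrArg (Int.cast : ℤ → ℂ) (hall χ hχ (fun a => (a : ℤ) ^ 2))
    push_cast at h2
    rw [h2]
    simp only [hcode, cwt]
    push_cast
    ring
  have hfix : ∀ χ ∈ S, ∑ j : ZMod 13, χ (g ^ j.val) = 13 * ((code χ).1 : ℂ) := fun χ hχ => by
    have h := count_formula hg (hc χ hχ) 0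
    simp only [zero_mul, neg_zero, AddChar.map_zero_eq_one, mul_one, Nat.cast_ofNat] at h
    exact h.symm
  -- the Galois action
  obtain ⟨σ, hσ⟩ : ∃ σ : ℂ ≃+* ℂ, ∀ z : ℂ, z ^ 5616 = 1 → σ z = z ^ 865 :=
    exists_ringEquiv_pow (by norm_num) (by norm_num)
  set tw : (G → ℂ) → (G → ℂ) := fun χ y => σ (χ y) with htw
  have htwS : ∀ χ ∈ S, tw χ ∈ S := fun χ hχ => by
    refine Finset.mem_erase.mpr ⟨fun e1 => (Finset.mem_erase.mp hχ).1 (funext fun y => ?_),
      mem_irrFinset.2 (IsIrrCharacter.map_ringEquiv (hirr χ hχ) σ)⟩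
    have := congrFun e1 y
    exact σ.injective (this.trans (map_one σ).symm)
  have htwinj : Function.Injective tw := fun a b e1 => funext fun y => σ.injective (congrFun e1 y)
  have hperm : S.val.map tw = S.val := by
    refine Multiset.eq_of_le_of_card_le ?_ (by simp)
    exact (Multiset.le_iff_subset (S.nodup.map htwinj)).mpr fun v hv => by
      obtain ⟨χ, hχ, rfl⟩ := Multiset.mem_map.mp hv
      exact htwS χ hχ
  have hpow : ∀ χ ∈ S, ∀ y : G, σ (χ y) = χ (y ^ 865) := fun χ hχ y =>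
    IsCharacter.map_ringEquiv_eq_pow (IsIrrCharacter.isCharacter (hirr χ hχ)) σ fun z hz => hσ z (by
      obtain ⟨k, hk⟩ := (hn ▸ orderOf_dvd_natCard y : orderOf y ∣ 5616)
      rw [hk, pow_mul, hz, one_pow])
  have hsame : ∀ χ ∈ S, ∀ y : G, y ^ 432 = 1 → tw χ y = χ y := fun χ hχ y hy => by
    show σ (χ y) = χ y
    rw [hpow χ hχ, show (865 : ℕ) = 432 * 2 + 1 by norm_num, pow_succ, pow_mul, hy, one_pow, one_mul]
  have hrot : ∀ χ ∈ S, code (tw χ) = crot (code χ) := by
    intro χ hχ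
    have key : ∀ k, c (tw χ) ((2 : ZMod 13)⁻¹ * k) = c χ k :=
      count_pow hg (hc χ hχ) (hc _ (htwS χ hχ)) residue_facts.2.1 fun j => by
        show σ (χ (g ^ j.val)) = _
        rw [hpow χ hχ, mul_comm ((2 : ZMod 13)⁻¹) j, pow_val_mul hg, twist_fact, ← pow_mod_orderOf (g ^ j.val) 865]
        congr 1
        rcases eq_or_ne (g ^ j.val) 1 with e | e
        · rw [e, one_pow, one_pow]
        · rw [orderOf_eq_prime (p := 13) (by rw [← pow_mul, mul_comm, pow_mul, show g ^ 13 = 1 from hg ▸ pow_orderOf_eq_one g, one_pow]) e]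
    have e : ∀ {k l : ZMod 13}, (2 : ZMod 13)⁻¹ * k = l → c (tw χ) l = c χ k := fun {k l} hkl => hkl ▸ key k
    simp only [hcode, crot, Prod.mk.injEq]
    refine ⟨e (mul_zero _), e residue_facts.2.2.1,
      e residue_facts.2.2.2.1, e residue_facts.2.2.2.2.1, ?_⟩
    rw [e residue_facts.2.2.2.2.2]
    exact (congrArg (c χ) (show (3 : ZMod 13) = 3 * 1 by rfl)).trans (h3 χ hχ 1)
  set M := S.val.map code with hM
  have hMrot : M.map crot = M := by
    conv_rhs => rw [hM, ← hperm, Multiset.map_map]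
    rw [hM, Multiset.map_map]
    exact Multiset.map_congr rfl fun χ hχ => (hrot χ hχ).symm
  -- the column relations
  have hpow1 : ∀ j : ZMod 13, j ≠ 0 → g ^ j.val ≠ 1 := fun j hj e1 => hj ((ZMod.val_eq_zero j).mp
    (Nat.eq_zero_of_dvd_of_lt ((dvd_of_eq hg.symm).trans (orderOf_dvd_of_pow_eq_one e1)) (ZMod.val_lt j)))
  have hcol : ∀ j : ZMod 13, j ≠ 0 →
      ∑ χ ∈ irrFinset G, χ (g ^ j.val) * conj (χ (g ^ j.val)) = (13 : ℂ) := by
    intro j hj
    rw [sum_irr_mul_conj, if_pos (IsConj.refl _)]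
    have hcent : Subgroup.centralizer ({g ^ j.val} : Set G) = Subgroup.centralizer ({g} : Set G) := by
      ext y
      simp only [Subgroup.mem_centralizer_singleton_iff]
      refine ⟨fun h' => ?_, fun h' => (Commute.pow_right (show Commute y g from h') _).eq⟩
      have h2 := (Commute.pow_right (show Commute y (g ^ j.val) from h') (j⁻¹).val).eq
      rwa [← pow_val_mul hg, mul_inv_cancel₀ hj, ZMod.val_one, pow_one] at h2
    rw [hcent, hC]
    norm_num
  have hlin0 : ∀ j : ZMod 13, j ≠ 0 → ∑ χ ∈ irrFinset G, χ 1 * χ (g ^ j.val) = (0 : ℂ) := fun j hj => by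
    rw [sum_degree_mul_apply, if_neg (hpow1 j hj)]
  have hsumd : ∑ χ ∈ S, χ 1 ^ 2 = (5615 : ℂ) := by
    rw [hS, Finset.sum_erase_eq_sub hone, sum_degree_sq, hn, htriv]
    norm_num
  have htot : ∑ χ ∈ irrFinset G, ∑ j : ZMod 13, χ (g ^ j.val) * conj (χ (g ^ j.val)) = (5772 : ℂ) := by
    rw [Finset.sum_comm, ← Finset.add_sum_erase _ _ (Finset.mem_univ (0 : ZMod 13)),
      Finset.sum_congr rfl (fun j hj => hcol j (Finset.ne_of_mem_erase hj)), Finset.sum_const,
      Finset.card_erase_of_mem (Finset.mem_univ _), Finset.card_univ, ZMod.card, nsmul_eq_mul]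
    rw [ZMod.val_zero, pow_zero, Finset.sum_congr rfl fun χ hχ => (show χ 1 * conj (χ 1) = χ 1 ^ 2 by
      obtain ⟨d, -, hd⟩ := IsIrrCharacter.exists_degree (mem_irrFinset.1 hχ)
      rw [hd, Complex.conj_natCast, sq]), sum_degree_sq, hn]
    norm_num
  have htot1 : ∑ χ ∈ irrFinset G, χ 1 * ∑ j : ZMod 13, χ (g ^ j.val) = (5616 : ℂ) := by
    simp only [Finset.mul_sum]
    rw [Finset.sum_comm, ← Finset.add_sum_erase _ _ (Finset.mem_univ (0 : ZMod 13)),
      Finset.sum_congr rfl (fun j hj => hlin0 j (Finset.ne_of_mem_erase hj)), Finset.sum_const, smul_zero,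
      add_zero, ZMod.val_zero, pow_zero, sum_degree_mul_apply, if_pos rfl, hn]
    norm_num
  have cast_sum : ∀ F : Code → ℤ, (((M.map F).sum : ℤ) : ℂ) = ∑ χ ∈ S, ((F (code χ) : ℤ) : ℂ) := fun F => by
    rw [hM, Multiset.map_map]
    exact Int.cast_sum S (fun χ => F (code χ))
  have hMw : (M.map cwt).sum = 144 := by
    apply Int.cast_injective (α := ℂ)
    rw [cast_sum, Finset.sum_congr rfl hwt, Finset.sum_sub_distrib, hsumd, hS, Finset.sum_erase_eq_sub hone, htot]
    simp [htriv, ZMod.card]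
    norm_num
  have hMq : (M.map csq).sum = 5615 := by
    apply Int.cast_injective (α := ℂ)
    rw [cast_sum, Int.cast_ofNat, ← hsumd]
    exact Finset.sum_congr rfl fun χ hχ => by rw [hdeg χ hχ, csq]; push_cast; ring
  have hMl : (M.map clin).sum = 12 := by
    apply Int.cast_injective (α := ℂ)
    rw [cast_sum, Finset.sum_congr rfl fun χ hχ => (show ((clin (code χ) : ℤ) : ℂ) =
      χ 1 ^ 2 - χ 1 * ∑ j : ZMod 13, χ (g ^ j.val) by rw [hfix χ hχ, hdeg χ hχ, clin]; push_cast; ring),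
      Finset.sum_sub_distrib, hsumd, hS, Finset.sum_erase_eq_sub hone, htot1]
    simp [htriv, ZMod.card]
    norm_num
  have hgood : ∀ v ∈ M, cdeg v ∈ degs ∧ cdeg v ≠ v.1 := by
    intro v hv
    obtain ⟨χ, hχ, rfl⟩ := Multiset.mem_map.mp hv
    have hne1 := (Finset.mem_erase.mp (show χ ∈ (irrFinset G).erase triv from hχ)).1
    have hd1 := ne_one_of_simple hG (hirr χ hχ) hne1
    refine ⟨deg_cases _ (List.mem_range.2 ?_) ?_ (Nat.mod_eq_zero_of_dvd ?_), fun e1 => ?_⟩
    · have h1 : csq (code χ) ≤ 5615 := by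
        rw [← hMq, hM, Multiset.map_map]
        exact Finset.single_le_sum (f := fun ψ => csq (code ψ)) (fun _ _ => mul_self_nonneg _) hχ
      rw [csq] at h1
      nlinarith
    · rw [hdeg χ hχ] at hd1
      have h0 := IsIrrCharacter.apply_one_ne_zero (hirr χ hχ)
      rw [hdeg χ hχ] at h0
      have a : cdeg (code χ) ≠ 1 := fun e2 => hd1 (by rw [e2, Nat.cast_one])
      have b : cdeg (code χ) ≠ 0 := fun e2 => h0 (by rw [e2, Nat.cast_zero])
      omega
    · exact hn ▸ IsIrrCharacter.degree_dvd_card (hirr χ hχ) (hdeg χ hχ)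
    · refine faithful (hirr χ hχ) hne1 hd1 (g := g) (fun hg1 => ?_) ?_
      · rw [hg1, orderOf_one] at hg; norm_num at hg
      · have hz : ∀ b : ZMod 13, b ≠ 0 → c χ b = 0 := by
          intro b hb
          have h1 : ∑ b' : ZMod 13, c χ b' = c χ 0 := by
            have h2 := sum_count hg (hc χ hχ)
            rw [hdeg χ hχ, e1] at h2
            exact_mod_cast h2.symm
          rw [← Finset.add_sum_erase _ _ (Finset.mem_univ (0 : ZMod 13))] at h1
          exact (Finset.sum_eq_zero_iff.mp (by omega : ∑ b' ∈ Finset.univ.erase (0 : ZMod 13), c χ b' = 0)) b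
            (Finset.mem_erase.mpr ⟨hb, Finset.mem_univ b⟩)
        have h4 : χ g = χ (g ^ (1 : ZMod 13).val) := by rw [ZMod.val_one, pow_one]
        rw [h4, hc χ hχ, hdeg χ hχ, e1]
        rw [Finset.sum_eq_single (0 : ZMod 13) (fun b _ hb => by rw [hz b hb]; simp)
          (fun h' => absurd (Finset.mem_univ _) h'), zero_mul, AddChar.map_zero_eq_one, mul_one]
  have hspec := filter_eq_special M hMrot hgood hMw hMq hMl
  set T := S.filter fun χ => cwt (code χ) ≠ 0 with hT
  have hTmap : T.val.map code = (special : Multiset Code) := by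
    rw [← hspec, hM, Multiset.filter_map, hT, Finset.filter_val]
    rfl
  have hex : ∀ v ∈ special, ∃ χ ∈ S, code χ = v := fun v hv => by
    obtain ⟨χ, hχ, e⟩ := Multiset.mem_map.1 (hTmap ▸ (Multiset.mem_coe.2 hv) : v ∈ T.val.map code)
    exact ⟨χ, (Finset.mem_filter.1 hχ).1, e⟩
  obtain ⟨A, hAS, hA⟩ := hex (0, 1, 1, 1, 1) (by decide)
  obtain ⟨B, hBS, hB⟩ := hex (3, 2, 2, 2, 2) (by decide)
  obtain ⟨C0, hC0S, hC0⟩ := hex (1, 1, 1, 1, 2) (by decide)
  let C : Fin 4 → G → ℂ := fun i => tw^[i.1] C0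
  have hCS : ∀ k, tw^[k] C0 ∈ S ∧ code (tw^[k] C0) = crot^[k] (code C0) ∧
      ∀ y : G, y ^ 432 = 1 → tw^[k] C0 y = C0 y := by
    intro k
    induction k with
    | zero => exact ⟨hC0S, rfl, fun _ _ => rfl⟩
    | succ k ih =>
      rw [Function.iterate_succ_apply', Function.iterate_succ_apply']
      exact ⟨htwS _ ih.1, by rw [hrot _ ih.1, ih.2.1], fun y hy => (hsame _ ih.1 y hy).trans (ih.2.2 y hy)⟩
  have hval : ∀ χ ∈ S, χ g = ∑ b, (entry (code χ) b : ℂ) * ZMod.stdAddChar b := fun χ hχ => by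
    have h4 : χ g = χ (g ^ (1 : ZMod 13).val) := by rw [ZMod.val_one, pow_one]
    rw [h4, hc χ hχ]
    exact Finset.sum_congr rfl fun b _ => by rw [mul_one, hentry χ hχ b]
  have hpsi : ∑ b : ZMod 13, ZMod.stdAddChar b = 0 := by
    simpa using sum_stdAddChar (1 : ZMod 13)
  have hpsi0 : ∑ b : ZMod 13, (if b = 0 then (1 : ℂ) else 0) * ZMod.stdAddChar b = 1 := by simp
  set l : List (G → ℂ) := [A, B, C 0, C 1, C 2, C 3] with hl
  have hlmap : l.map code = [(0, 1, 1, 1, 1), (3, 2, 2, 2, 2), (1, 1, 1, 1, 2), (1, 1, 1, 2, 1), (1, 1, 2, 1, 1),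
      (1, 2, 1, 1, 1)] := by
    simp only [hl, List.map_cons, List.map_nil, hA, hB, C, (hCS _).2.1, hC0]
    rfl
  have hlnd : l.Nodup := List.Nodup.of_map code (by rw [hlmap]; decide)
  have hTl : T = l.toFinset := by
    refine (Finset.eq_of_subset_of_card_le (fun χ hχ => ?_) ?_).symm
    · rw [List.mem_toFinset] at hχ
      have hmem : code χ ∈ special := by
        have := List.mem_map_of_mem (f := code) hχ
        rw [hlmap] at this
        exact this
      refine Finset.mem_filter.2 ⟨?_, ?_⟩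
      · simp only [hl, List.mem_cons, List.not_mem_nil, or_false] at hχ
        rcases hχ with e | e | e | e | e | e <;> rw [e]
        exacts [hAS, hBS, (hCS _).1, (hCS _).1, (hCS _).1, (hCS _).1]
      · revert hmem
        generalize code χ = v
        revert v
        decide +kernel
    · rw [List.toFinset_card_of_nodup hlnd, ← Finset.card_val, ← Multiset.card_map code, hTmap]
      rfl
  have h16 : ∀ i : Fin 4, cdeg (crot^[i.1] (1, 1, 1, 1, 2)) = 16 := by decide
  refine ⟨A, B, C, S.filter (fun χ => ¬ cwt (code χ) ≠ 0), hirr A hAS, hirr B hBS, fun i => hirr _ (hCS i.1).1,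
    fun χ hχ => hirr χ (Finset.mem_filter.1 hχ).1, ?_, ?_, fun i => ?_, fun χ hχ => ?_, ?_, ?_, ?_, fun χ hχ => ?_,
    fun F => ?_, fun i y hy => ((hCS i.1).2.2 y hy).trans rfl, ?_⟩
  · rw [hdeg A hAS, hA]; norm_num [cdeg]
  · rw [hdeg B hBS, hB]; norm_num [cdeg]
  · show tw^[i.1] C0 1 = 16
    rw [hdeg _ (hCS i.1).1, (hCS i.1).2.1, hC0, h16]; norm_num
  · obtain ⟨hχS, h0⟩ := Finset.mem_filter.1 hχ
    have h0' := not_not.1 h0
    refine ⟨(code χ).1, ?_⟩
    rw [hdeg χ hχS]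
    revert h0'
    obtain ⟨a, b, c', d, e⟩ := code χ
    intro h0'
    obtain ⟨rfl, rfl, rfl, rfl⟩ := eq_of_cwt_zero h0'
    simp only [cdeg]; push_cast; ring
  · have hh : ∀ b : ZMod 13, (entry (code A) b : ℂ) = 1 - (if b = 0 then 1 else 0) := fun b => by
      have h := congrArg (Nat.cast : ℕ → ℂ) (entry_A b)
      push_cast at h
      rw [hA]; linear_combination h
    rw [hval A hAS, Finset.sum_congr rfl fun b _ => by rw [hh, sub_mul, one_mul], Finset.sum_sub_distrib, hpsi, hpsi0]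
    norm_num
  · have hh : ∀ b : ZMod 13, (entry (code B) b : ℂ) = 2 + (if b = 0 then 1 else 0) := fun b => by
      have h := congrArg (Nat.cast : ℕ → ℂ) (entry_B b)
      push_cast at h
      rw [hB]; exact h
    rw [hval B hBS, Finset.sum_congr rfl fun b _ => by rw [hh, add_mul], Finset.sum_add_distrib, ← Finset.mul_sum, hpsi, hpsi0]
    norm_num
  · have hh : ∀ b : ZMod 13, ∑ i, (entry (code (C i)) b : ℂ) = 5 - (if b = 0 then 1 else 0) := fun b => by
      have h := congrArg (Nat.cast : ℕ → ℂ) (entry_C b)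
      push_cast at h
      simp only [Fin.sum_univ_four, C, (hCS _).2.1, hC0]
      show (entry (1, 1, 1, 1, 2) b : ℂ) + entry (1, 1, 1, 2, 1) b + entry (1, 1, 2, 1, 1) b + entry (1, 2, 1, 1, 1) b = _
      linear_combination h
    rw [Finset.sum_congr rfl fun i _ => hval _ (hCS i.1).1, Finset.sum_comm,
      Finset.sum_congr rfl fun b _ => (by rw [← Finset.sum_mul, hh, sub_mul] :
        ∑ i, (entry (code (C i)) b : ℂ) * ZMod.stdAddChar b = _),
      Finset.sum_sub_distrib, ← Finset.mul_sum, hpsi, hpsi0]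
    norm_num
  · obtain ⟨hχS, h0⟩ := Finset.mem_filter.1 hχ
    have h0' := not_not.1 h0
    rw [hval χ hχS]
    revert h0'
    obtain ⟨a, b, c', d, e⟩ := code χ
    intro h0'
    obtain ⟨rfl, rfl, rfl, rfl⟩ := eq_of_cwt_zero h0'
    have hconst : ∀ i : ZMod 13, entry (e, e, e, e, e) i = e := by
      show ∀ i : Fin 13, entry (e, e, e, e, e) i = e
      intro i
      fin_cases i <;> rfl
    simp only [hconst, ← Finset.mul_sum, hpsi, mul_zero]
  · rw [← Finset.add_sum_erase _ _ hone, ← hS, ← Finset.sum_filter_add_sum_filter_not S (fun χ => cwt (code χ) ≠ 0),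
      ← hT, hTl, List.sum_toFinset _ hlnd]
    simp only [hl, List.map_cons, List.map_nil, List.sum_cons, List.sum_nil, Fin.sum_univ_four]
    ring
  · rw [hfix A hAS, hA]; norm_num

end CfsgLib.L33Order
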