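import Cfsg.Agent.SmallSimple.L33Order.Central
import Cfsg.Agent.SmallSimple.ThirtySixForty.Main

/-!
# A subgroup of index 13 and an involution inverting an element of order 3
-/

set_option autoImplicit false
set_option linter.style.haveILetI false

namespace CfsgLib.L33Order

open Subgroup MulAction CfsgLib.SixThousand CfsgLib.SylowCheck

universe u

variable {G : Type u} [Group G] [Finite G] [IsSimpleGroup G]

omit [IsSimpleGroup G] in
theorem mem_norm {H : Subgroup G} {g : G} (h : ∀ x ∈ H, g * x * g⁻¹ ∈ H) : g ∈ normalizer (H : Set G) := by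
  have hmap : H.map (MulAut.conj g).toMonoidHom = H := eq_of_le_of_card_ge
    (map_le_iff_le_comap.2 h) (Nat.card_congr (equivMapOfInjective H _ (MulAut.conj g).injective).toEquiv).le
  refine mem_normalizer_iff.2 fun x => ⟨h x, fun hx => ?_⟩
  rw [← hmap] at hx
  obtain ⟨z, hz, hzx⟩ := hx
  rwa [← (MulAut.conj g).injective hzx]

theorem root_facts : (Finset.univ.filter fun r : ZMod 13 => r ^ 3 = 1).card = 3 ∧ (3 : ZMod 13) ^ 3 = 1 := by
  decide +kernel

/-- The generator of a Sylow 13-subgroup and an element of order three acting on it. -/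
theorem exists_setup (hG : ¬ IsMulCommutative G) (hn : Nat.card G = 5616) :
    ∃ (g y : G) (A B : G → ℂ) (C : Fin 4 → G → ℂ) (R : Finset (G → ℂ)), orderOf g = 13 ∧
      Nat.card (centralizer ({g} : Set G)) = 13 ∧
      Nat.card (normalizer ((zpowers g : Subgroup G) : Set G)) = 39 ∧
      orderOf y = 3 ∧ y * g * y⁻¹ = g ^ 3 ∧ Decomp g A B C R := by
  haveI : Fact (Nat.Prime 13) := ⟨by norm_num⟩
  obtain ⟨x, hx, hr⟩ := exists_datum hG hn (allowed := [(13, 144, 1)]) (by decide +kernel)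
  rw [List.mem_singleton] at hx
  subst hx
  obtain ⟨g, -, -, hg, hC, hN, -⟩ := exists_generator hr hn (m := 39) rfl
  rw [mul_one] at hC
  obtain ⟨h, hh⟩ := exists_conj_pow (p := 13) (c := 1) (e := 3) hg (hC.trans (mul_one 13).symm) hN
    root_facts.1 (r := 3) root_facts.2
  rw [show (3 : ZMod 13).val = 3 from rfl] at hh
  obtain ⟨A, B, C, R, D⟩ := exists_decomp hG hn hg hC ⟨h, hh⟩
  have hg13 : g ^ 13 = 1 := hg ▸ pow_orderOf_eq_one g
  have hiter : ∀ m : ℕ, h ^ m * g * (h ^ m)⁻¹ = g ^ (3 ^ m) := by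
    intro m
    induction m with
    | zero => simp
    | succ m ih =>
      calc h ^ (m + 1) * g * (h ^ (m + 1))⁻¹ = h * (h ^ m * g * (h ^ m)⁻¹) * h⁻¹ := by rw [pow_succ']; group
        _ = (h * g * h⁻¹) ^ (3 ^ m) := by rw [ih, conj_pow]
        _ = _ := by rw [hh, ← pow_mul, ← pow_succ']
  have hy : h ^ 13 * g * (h ^ 13)⁻¹ = g ^ 3 := by
    rw [hiter, ← pow_mod_orderOf, hg]
    norm_num
  have hyN : h ^ 13 ∈ normalizer ((zpowers g : Subgroup G) : Set G) := by
    refine Subgroup.pow_mem _ (mem_norm fun z hz => ?_) _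
    obtain ⟨k, rfl⟩ := hz
    rw [← conj_zpow, hh]
    exact ⟨3 * k, by simp only; rw [zpow_mul]; norm_cast⟩
  have h39 : h ^ 39 = 1 := by
    have hN' : h ∈ normalizer ((zpowers g : Subgroup G) : Set G) := mem_norm fun z hz => by
      obtain ⟨k, rfl⟩ := hz
      rw [← conj_zpow, hh]
      exact ⟨3 * k, by simp only; rw [zpow_mul]; norm_cast⟩
    have := congrArg Subtype.val (pow_card_eq_one' (x := (⟨h, hN'⟩ : normalizer ((zpowers g : Subgroup G) : Set G))))
    rwa [hN] at this
  haveI : Fact (Nat.Prime 3) := ⟨by norm_num⟩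
  have hy3 : orderOf (h ^ 13) = 3 := orderOf_eq_prime (by rw [← pow_mul]; exact h39) fun e => by
    rw [e, one_mul, inv_one, mul_one] at hy
    nth_rw 1 [← pow_one g] at hy
    rw [pow_inj_mod, hg] at hy
    norm_num at hy
  exact ⟨g, h ^ 13, A, B, C, R, hg, hC, hN, hy3, hy, D⟩

variable {g : G} {A B : G → ℂ} {C : Fin 4 → G → ℂ} {R : Finset (G → ℂ)}

/-- The structure around the centre of a Sylow 3-subgroup. -/
theorem sylow_data (hG : ¬ IsMulCommutative G) (hn : Nat.card G = 5616) (D : Decomp g A B C R)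
    (hg : orderOf g = 13) (hCg : Nat.card (centralizer ({g} : Set G)) = 13)
    (P : Sylow 3 G) {y : G} (hyP : y ∈ (P : Subgroup G)) (hy1 : y ≠ 1) (hAy : A y = 0) :
    ∃ w t : G, orderOf w = 3 ∧ w ∈ (P : Subgroup G) ∧ y ∉ zpowers w ∧ (∀ p ∈ (P : Subgroup G), p * w = w * p) ∧
      Nat.card (centralizer ({w} : Set G)) = 54 ∧ (P : Subgroup G) ≤ centralizer ({w} : Set G) ∧
      centralizer ({w} : Set G) ≤ normalizer ((P : Subgroup G) : Set G) ∧
      t ∈ centralizer ({w} : Set G) ∧ orderOf t = 2 ∧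
      (∀ p ∈ (P : Subgroup G), p ∉ zpowers w → ∃ b : ℕ, t * p * t⁻¹ = p⁻¹ * w ^ b) ∧
      (∀ p ∈ (P : Subgroup G), p ∉ zpowers w → ∀ i : ℕ, ∃ q ∈ (P : Subgroup G), q * p * q⁻¹ = p * w ^ i) ∧
      (∀ p ∈ (P : Subgroup G), p ∉ zpowers w →
        Nat.card ((P : Subgroup G) ⊓ centralizer ({p} : Set G) : Subgroup G) = 9) := by
  classical
  haveI h3 : Fact (Nat.Prime 3) := ⟨by norm_num⟩
  set H := (P : Subgroup G) with hH
  have hPc : Nat.card H = 27 := by
    rw [CfsgLib.SmallSimple.card_sylow_eq P (k := 3) (m := 208) (by rw [hn]; norm_num) (by norm_num)]; norm_num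
  have hp27 : ∀ p ∈ H, p ^ 27 = 1 := fun p hp => by
    have := congrArg Subtype.val (pow_card_eq_one' (x := (⟨p, hp⟩ : H)))
    rwa [hPc] at this
  haveI : Nontrivial H := Finite.one_lt_card_iff_nontrivial.1 (by rw [hPc]; norm_num)
  haveI := P.2.center_nontrivial
  obtain ⟨k, hk⟩ : ∃ k, Nat.card (center H) = 3 ^ k := (P.2.to_subgroup (center H)).exists_card_eq
  have hkH : Nat.card (center H) ∣ 27 := hPc ▸ card_subgroup_dvd_card (center H)
  have hk0 : k ≠ 0 := fun h => by
    rw [h, pow_zero] at hk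
    have := Finite.one_lt_card (α := center H)
    omega
  have hcen : ∀ z : H, z ∈ center H → (z : G) ≠ 1 →
      A z = 3 ∧ Nat.card (centralizer ({(z : G)} : Set G)) = 54 ∧ H ≤ centralizer ({(z : G)} : Set G) := by
    intro z hz hz1
    have hle : H ≤ centralizer ({(z : G)} : Set G) := fun p hp =>
      mem_centralizer_singleton_iff.2 (congrArg Subtype.val (Subgroup.mem_center_iff.1 hz ⟨p, hp⟩))
    obtain ⟨h1, h2⟩ := central hG hn D hg hCg (hp27 z z.2) hz1 (hPc ▸ card_dvd_of_le hle)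
    exact ⟨h1, h2, hle⟩
  have hyc : (⟨y, hyP⟩ : H) ∉ center H := fun h => by
    have := (hcen _ h hy1).1
    rw [show ((⟨y, hyP⟩ : H) : G) = y from rfl, hAy] at this
    norm_num at this
  have hZ3 : Nat.card (center H) = 3 := by
    have hlt : k < 3 := by
      by_contra hge
      have h27 : Nat.card (center H) = Nat.card H := Nat.dvd_antisymm (card_subgroup_dvd_card _)
        (by rw [hPc, hk, show (27 : ℕ) = 3 ^ 3 by norm_num]; exact pow_dvd_pow 3 (by omega))
      exact hyc ((Subgroup.eq_top_of_card_eq _ h27).symm ▸ mem_top _)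
    have hk2 : k ≠ 2 := fun h => by
      have hq : Nat.card (H ⧸ center H) = 3 := by
        have h1 := card_eq_card_quotient_mul_card_subgroup (center H)
        rw [hPc, hk, h] at h1
        omega
      haveI : IsCyclic (H ⧸ center H) := isCyclic_of_prime_card hq
      refine hyc (Subgroup.mem_center_iff.2 fun p => ?_)
      exact commutative_of_cyclic_center_quotient (QuotientGroup.mk' (center H))
        (by rw [QuotientGroup.ker_mk']) p ⟨y, hyP⟩
    rw [hk, show k = 1 by omega, pow_one]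
  obtain ⟨z, hz⟩ := exists_prime_orderOf_dvd_card' (G := center H) 3 hZ3.symm.dvd
  set w : G := ((z : H) : G) with hw
  have hwo : orderOf w = 3 := by rw [hw, Subgroup.orderOf_coe, Subgroup.orderOf_coe, hz]
  have hw1 : w ≠ 1 := fun e => by rw [e, orderOf_one] at hwo; norm_num at hwo
  obtain ⟨-, hCw, hPw⟩ := hcen z z.2 hw1
  have hwcomm : ∀ p ∈ H, p * w = w * p := fun p hp => mem_centralizer_singleton_iff.1 (hPw hp)
  have hw3 : w ^ 3 = 1 := hwo ▸ pow_orderOf_eq_one w
  have hwH : w ∈ H := (z : H).2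
  have hZ : ∀ p ∈ H, (∀ q ∈ H, q * p = p * q) → p ∈ zpowers w := by
    intro p hp hc
    have hmem : (⟨p, hp⟩ : H) ∈ center H := Subgroup.mem_center_iff.2 fun q => Subtype.ext (hc q q.2)
    have htop : zpowers z = ⊤ := Subgroup.eq_top_of_card_eq _ (by rw [Nat.card_zpowers, hz, hZ3])
    obtain ⟨i, hi⟩ := mem_zpowers_iff.1 (htop ▸ mem_top (⟨_, hmem⟩ : center H) : (⟨_, hmem⟩ : center H) ∈ zpowers z)
    refine ⟨i, ?_⟩
    have := congrArg (fun x : center H => ((x : H) : G)) hi
    simpa [hw] using this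
  have hQ : ∀ p ∈ H, ∀ q ∈ H, p * q * p⁻¹ * q⁻¹ ∈ zpowers w := by
    intro p hp q hq
    have hq9 : Nat.card (H ⧸ center H) = 3 ^ 2 := by
      have h1 := card_eq_card_quotient_mul_card_subgroup (center H)
      rw [hPc, hZ3] at h1
      omega
    have hab := (IsPGroup.isMulCommutative_of_card_eq_prime_sq hq9).is_comm.comm
      (QuotientGroup.mk' (center H) ⟨p, hp⟩) (QuotientGroup.mk' (center H) ⟨q, hq⟩)
    have hmem : (⟨p, hp⟩ * ⟨q, hq⟩ * (⟨p, hp⟩)⁻¹ * (⟨q, hq⟩)⁻¹ : H) ∈ center H := by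
      rw [← QuotientGroup.eq_one_iff (N := center H), ← QuotientGroup.mk'_apply, map_mul, map_mul, map_mul, map_inv,
        map_inv, hab]
      group
    refine hZ _ (H.mul_mem (H.mul_mem (H.mul_mem hp hq) (H.inv_mem hp)) (H.inv_mem hq)) fun r hr => ?_
    exact congrArg Subtype.val (Subgroup.mem_center_iff.1 hmem ⟨r, hr⟩)
  have hwz : ∀ {x : G}, x ∈ zpowers w → ∃ i < 3, x = w ^ i := fun {x} hx => by
    obtain ⟨i, hi⟩ := mem_powers_iff_mem_zpowers.2 hx
    exact ⟨i % 3, Nat.mod_lt _ (by norm_num), by rw [← hi]; exact (hwo ▸ (pow_mod_orderOf w i).symm)⟩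
  have hwc : ∀ {x : G}, x ∈ zpowers w → ∀ p ∈ H, p * x = x * p := fun {x} hx p hp => by
    obtain ⟨i, -, rfl⟩ := hwz hx
    exact (Commute.pow_right (show Commute p w from hwcomm p hp) i).eq
  -- the centraliser of a noncentral element
  have hA9 : ∀ p ∈ H, p ∉ zpowers w →
      Nat.card (H ⊓ centralizer ({p} : Set G) : Subgroup G) = 9 ∧
      (∀ i : ℕ, p ^ i ∈ zpowers w → i % 3 = 0) ∧
      ∀ x ∈ H, x * p = p * x → ∃ i < 3, ∃ j : ℕ, x = p ^ i * w ^ j := by
    intro p hp hpw
    set E := H ⊓ centralizer ({p} : Set G)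
    have hpow : ∀ i : ℕ, p ^ i ∈ zpowers w → i % 3 = 0 := by
      intro i hi
      by_contra hne
      obtain ⟨m, hm⟩ : ∃ m, i * m % 27 = 1 := by
        have key : ∀ r : Fin 27, r.1 % 3 ≠ 0 → ∃ m : Fin 27, r.1 * m.1 % 27 = 1 := by decide +kernel
        obtain ⟨m, hm⟩ := key ⟨i % 27, Nat.mod_lt _ (by norm_num)⟩ (by show i % 27 % 3 ≠ 0; omega)
        exact ⟨m.1, by rw [Nat.mul_mod, ← hm]; simp [Nat.mul_mod]⟩
      refine hpw ?_
      have := Subgroup.pow_mem _ hi m
      rw [← pow_mul, ← pow_mod_orderOf] at this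
      have ho : orderOf p ∣ 27 := orderOf_dvd_of_pow_eq_one (hp27 p hp)
      rwa [← Nat.mod_mod_of_dvd _ ho, hm, pow_mod_orderOf, pow_one] at this
    let f : Fin 3 × Fin 3 → E := fun ij => ⟨p ^ ij.1.1 * w ^ ij.2.1,
      H.mul_mem (H.pow_mem hp _) (H.pow_mem hwH _), mem_centralizer_singleton_iff.2
        ((Commute.pow_left (Commute.refl p) _).mul_left (Commute.pow_left (show Commute w p from (hwcomm p hp).symm) _)).eq⟩
    have hf : Function.Injective f := by
      rintro ⟨i, j⟩ ⟨i', j'⟩ h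
      have h' : p ^ i.1 * w ^ j.1 = p ^ i'.1 * w ^ j'.1 := congrArg Subtype.val h
      have hi : i = i' := by
        rcases le_total i.1 i'.1 with hle | hle
        · have hm : p ^ (i'.1 - i.1) ∈ zpowers w := by
            have e : p ^ (i'.1 - i.1) = w ^ j.1 * (w ^ j'.1)⁻¹ := by
              rw [← Nat.add_sub_cancel' hle, pow_add, mul_assoc] at h'
              rw [mul_left_cancel h']; group
            rw [e]
            exact mul_mem (pow_mem (mem_zpowers w) _) (inv_mem (pow_mem (mem_zpowers w) _))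
          have := hpow _ hm
          exact Fin.ext (by omega)
        · have hm : p ^ (i.1 - i'.1) ∈ zpowers w := by
            have e : p ^ (i.1 - i'.1) = w ^ j'.1 * (w ^ j.1)⁻¹ := by
              rw [← Nat.add_sub_cancel' hle, pow_add, mul_assoc] at h'
              rw [← mul_left_cancel h']; group
            rw [e]
            exact mul_mem (pow_mem (mem_zpowers w) _) (inv_mem (pow_mem (mem_zpowers w) _))
          have := hpow _ hm
          exact Fin.ext (by omega)
      subst hi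
      have := mul_left_cancel h'
      rw [pow_inj_mod, hwo] at this
      exact Prod.ext rfl (Fin.ext (show j.1 = j'.1 by omega))
    have hge : 9 ≤ Nat.card E := by
      have := Nat.card_le_card_of_injective f hf
      simpa using this
    have hE : Nat.card E = 9 := by
      have hd : Nat.card E ∈ Nat.divisors 27 :=
        Nat.mem_divisors.2 ⟨hPc ▸ card_dvd_of_le inf_le_left, by norm_num⟩
      have key : ∀ n ∈ Nat.divisors 27, 9 ≤ n → n = 9 ∨ n = 27 := by decide +kernel
      refine (key _ hd hge).resolve_right fun h27 => hpw (hZ p hp fun q hq => ?_)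
      have hEH : E = H := eq_of_le_of_card_ge inf_le_left (by rw [h27, hPc])
      exact mem_centralizer_singleton_iff.1 (hEH.ge hq).2
    refine ⟨hE, hpow, fun x hx hxp => ?_⟩
    obtain ⟨⟨i, j⟩, hij⟩ := ((Nat.bijective_iff_injective_and_card f).2 ⟨hf, by simp [hE]⟩).2
      ⟨x, hx, mem_centralizer_singleton_iff.2 hxp⟩
    exact ⟨i.1, i.2, j.1, (congrArg Subtype.val hij).symm⟩
  -- the involution
  obtain ⟨t₀, ht₀⟩ := exists_prime_orderOf_dvd_card' (G := centralizer ({w} : Set G)) 2 (by rw [hCw]; norm_num)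
  set t : G := (t₀ : G)
  have hto : orderOf t = 2 := (Subgroup.orderOf_coe t₀).trans ht₀
  have htt : t * t = 1 := by rw [← sq, ← hto, pow_orderOf_eq_one]
  have ht1 : t ≠ 1 := fun e => by rw [e, orderOf_one] at hto; norm_num at hto
  have hti : t⁻¹ = t := inv_eq_of_mul_eq_one_right htt
  have htw : t * w = w * t := (mem_centralizer_singleton_iff.1 t₀.2)
  have hNC : centralizer ({w} : Set G) ≤ normalizer (H : Set G) := by
    haveI : (H.subgroupOf (centralizer ({w} : Set G))).Normal := by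
      refine normal_of_index_eq_two ?_
      have h := Subgroup.card_mul_index (H.subgroupOf (centralizer ({w} : Set G)))
      rw [Nat.card_congr (subgroupOfEquivOfLe hPw).toEquiv, hPc, hCw] at h
      omega
    exact le_normalizer_of_normal_subgroupOf hPw
  have htH : ∀ p ∈ H, t * p * t⁻¹ ∈ H := fun p hp => (mem_normalizer_iff.1 (hNC t₀.2) p).1 hp
  have htfix : ∀ x ∈ zpowers w, t * x * t⁻¹ = x := fun x hx => by
    obtain ⟨i, -, rfl⟩ := hwz hx
    rw [mul_inv_eq_iff_eq_mul]
    exact (Commute.pow_right (show Commute t w from htw) i).eq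
  have hkey : ∀ p ∈ H, p ∉ zpowers w → ∃ b : ℕ, t * p * t⁻¹ = p⁻¹ * w ^ b := by
    intro p hp hpw
    obtain ⟨-, hpow, hE⟩ := hA9 p hp hpw
    set φp := t * p * t⁻¹ with hφ
    have hφH : φp ∈ H := htH p hp
    have hφφ : t * φp * t⁻¹ = p := by
      rw [hφ, hti]; calc t * (t * p * t) * t = (t * t) * p * (t * t) := by group
        _ = p := by rw [htt, one_mul, mul_one]
    have hcomm : φp * p = p * φp := by
      set c := p * φp * p⁻¹ * φp⁻¹ with hc
      have hcZ := hQ p hp φp hφH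
      have h1 : t * c * t⁻¹ = c⁻¹ := by
        rw [hc]
        calc t * (p * φp * p⁻¹ * φp⁻¹) * t⁻¹ = (t * p * t⁻¹) * (t * φp * t⁻¹) * (t * p * t⁻¹)⁻¹ * (t * φp * t⁻¹)⁻¹ := by group
          _ = φp * p * φp⁻¹ * p⁻¹ := by rw [hφφ, ← hφ]
          _ = (p * φp * p⁻¹ * φp⁻¹)⁻¹ := by group
      rw [htfix c hcZ] at h1
      obtain ⟨i, hi, hci⟩ := hwz hcZ
      have hc2 : c * c = 1 := by nth_rw 2 [h1]; exact mul_inv_cancel c
      have hc1 : c = 1 := by
        rw [← hc] at hci
        have h3 : c ^ 3 = 1 := by rw [hci, ← pow_mul, mul_comm, pow_mul, hw3, one_pow]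
        calc c = c ^ 3 * (c * c)⁻¹ := by group
          _ = 1 := by rw [h3, hc2, inv_one, mul_one]
      rw [hc, mul_inv_eq_one, mul_inv_eq_iff_eq_mul] at hc1
      exact hc1.symm
    obtain ⟨i, hi, j, hij⟩ := hE φp hφH hcomm
    interval_cases i
    · exfalso
      rw [pow_zero, one_mul] at hij
      refine hpw ?_
      rw [← hφφ, hij, htfix _ (pow_mem (mem_zpowers w) _)]
      exact pow_mem (mem_zpowers w) _
    · exfalso
      rw [pow_one] at hij
      have hfix : φp = p := by
        have h2 : p = p * (w ^ j * w ^ j) := by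
          conv_lhs => rw [← hφφ, hij]
          rw [show t * (p * w ^ j) * t⁻¹ = (t * p * t⁻¹) * (t * w ^ j * t⁻¹) by group, ← hφ, hij,
            htfix _ (pow_mem (mem_zpowers w) _), mul_assoc]
        have h3 : (w ^ j) ^ 2 = 1 := by rw [sq]; exact left_eq_mul.1 h2
        have h4 : (w ^ j) ^ 3 = 1 := by rw [← pow_mul, mul_comm, pow_mul, hw3, one_pow]
        have : w ^ j = 1 := by
          calc w ^ j = (w ^ j) ^ 3 * ((w ^ j) ^ 2)⁻¹ := by group
            _ = 1 := by rw [h4, h3, inv_one, mul_one]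
        rw [hij, this, mul_one]
      have hall : H ≤ centralizer ({t} : Set G) := by
        intro q hq
        rw [mem_centralizer_singleton_iff]
        set φq := t * q * t⁻¹ with hφq
        have hc := htfix _ (hQ p hp q hq)
        have e1 : p * φq * p⁻¹ * φq⁻¹ = p * q * p⁻¹ * q⁻¹ := by
          conv_rhs => rw [← hc]
          calc p * φq * p⁻¹ * φq⁻¹ = (t * p * t⁻¹) * φq * (t * p * t⁻¹)⁻¹ * φq⁻¹ := by rw [← hφ, hfix]
            _ = t * (p * q * p⁻¹ * q⁻¹) * t⁻¹ := by rw [hφq]; group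
        set r := q⁻¹ * φq with hr
        have hrp : r * p = p * r := by
          have e2 : φq * p⁻¹ * φq⁻¹ = q * p⁻¹ * q⁻¹ := by
            rw [mul_assoc p φq, mul_assoc p (φq * p⁻¹), mul_assoc p q, mul_assoc p (q * p⁻¹)] at e1
            exact mul_left_cancel e1
          have : r * p⁻¹ * r⁻¹ = p⁻¹ := by
            rw [hr]
            calc q⁻¹ * φq * p⁻¹ * (q⁻¹ * φq)⁻¹ = q⁻¹ * (φq * p⁻¹ * φq⁻¹) * q := by group
              _ = p⁻¹ := by rw [e2]; group
          exact (Commute.inv_right_iff.1 (mul_inv_eq_iff_eq_mul.1 this : Commute r p⁻¹)).eq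
        have hrH : r ∈ H := H.mul_mem (H.inv_mem hq) (htH q hq)
        obtain ⟨a, -, b, hab⟩ := hE r hrH hrp
        have hrfix : t * r * t⁻¹ = r := by
          rw [hab, show t * (p ^ a * w ^ b) * t⁻¹ = (t * p ^ a * t⁻¹) * (t * w ^ b * t⁻¹) by group,
            htfix _ (pow_mem (mem_zpowers w) _), ← conj_pow, ← hφ, hfix]
        have hr2 : r * r = 1 := by
          have : q = q * (r * r) := by
            calc q = t * φq * t⁻¹ := by
                  rw [hφq, hti]; calc q = (t * t) * q * (t * t) := by rw [htt, one_mul, mul_one]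
                    _ = t * (t * q * t) * t := by group
              _ = t * (q * r) * t⁻¹ := by rw [hr, mul_inv_cancel_left]
              _ = φq * (t * r * t⁻¹) := by rw [hφq]; group
              _ = q * r * r := by rw [hrfix, hr, mul_inv_cancel_left]
              _ = q * (r * r) := mul_assoc _ _ _
          exact left_eq_mul.1 this
        have hr1 : r = 1 := by
          calc r = r ^ 27 * ((r * r)⁻¹) ^ 13 := by rw [← sq, inv_pow, ← pow_mul]; group
            _ = 1 := by rw [hp27 r hrH, hr2, inv_one, one_pow, mul_one]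
        rw [hr, inv_mul_eq_one] at hr1
        exact (mul_inv_eq_iff_eq_mul.1 (hφq ▸ hr1.symm : t * q * t⁻¹ = q)).symm
      exact not_centralizes hG hn D htt ht1 (hPc ▸ card_dvd_of_le hall)
    · obtain ⟨i, hi, l, hl⟩ := hE (p ^ 3) (H.pow_mem hp 3) (Commute.pow_self p 3).eq
      have hi0 : i = 0 := by
        have hm : p ^ (3 - i) ∈ zpowers w := by
          have : p ^ (3 - i) = w ^ l := by
            rw [show p ^ 3 = p ^ i * p ^ (3 - i) by rw [← pow_add, Nat.add_sub_cancel' hi.le]] at hl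
            exact mul_left_cancel hl
          rw [this]; exact pow_mem (mem_zpowers w) _
        have := hpow _ hm
        omega
      rw [hi0, pow_zero, one_mul] at hl
      refine ⟨l + j, ?_⟩
      rw [hij, pow_add, ← hl]
      group
  refine ⟨w, t, hwo, hwH, fun h => ?_, hwcomm, hCw, hPw, hNC, t₀.2, hto, hkey, ?_, fun p hp hpw => (hA9 p hp hpw).1⟩
  · refine hyc (Subgroup.mem_center_iff.2 fun q => Subtype.ext (hwc h q q.2))
  intro p hp hpw i
  obtain ⟨q, hq, hqp⟩ : ∃ q ∈ H, q * p ≠ p * q := by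
    by_contra hall
    push Not at hall
    exact hpw (hZ p hp hall)
  set c := q * p * q⁻¹ * p⁻¹ with hc
  have hcw := hQ q hq p hp
  have hiter : ∀ k : ℕ, q ^ k * p * (q ^ k)⁻¹ = c ^ k * p := by
    intro k
    induction k with
    | zero => simp
    | succ k ih =>
      calc q ^ (k + 1) * p * (q ^ (k + 1))⁻¹ = q * (q ^ k * p * (q ^ k)⁻¹) * q⁻¹ := by rw [pow_succ']; group
        _ = (q * c ^ k) * p * q⁻¹ := by rw [ih]; group
        _ = c ^ k * (c * p) := by
          have e1 : q * c ^ k = c ^ k * q := hwc (pow_mem hcw k) q hq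
          have e2 : c * p = q * p * q⁻¹ := by rw [hc, inv_mul_cancel_right]
          rw [e2, e1]; simp only [mul_assoc]
        _ = c ^ (k + 1) * p := by rw [pow_succ]; exact (mul_assoc _ _ _).symm
  have hcgen : zpowers c = zpowers w := by
    refine eq_of_le_of_card_ge (zpowers_le.2 hcw) ?_
    obtain ⟨m, hm, hcm⟩ := hwz hcw
    have hm0 : m ≠ 0 := fun e => by
      rw [e, pow_zero] at hcm
      rw [mul_inv_eq_one, mul_inv_eq_iff_eq_mul] at hcm
      exact hqp hcm
    rw [Nat.card_zpowers, Nat.card_zpowers, show c = w ^ m from hcm, orderOf_pow, hwo]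
    rcases (by omega : m = 1 ∨ m = 2) with rfl | rfl <;> norm_num
  obtain ⟨k, hk⟩ := mem_powers_iff_mem_zpowers.2 (hcgen.ge (pow_mem (mem_zpowers w) i))
  refine ⟨q ^ k, H.pow_mem hq k, ?_⟩
  rw [hiter, show c ^ k = w ^ i from hk, hwc (pow_mem (mem_zpowers w) i) p hp]

/-- A subgroup of index 13. -/
theorem exists_index (hG : ¬ IsMulCommutative G) (hn : Nat.card G = 5616) (D : Decomp g A B C R)
    (hg : orderOf g = 13) (hCg : Nat.card (centralizer ({g} : Set G)) = 13)
    {y : G} (hy3 : orderOf y = 3) (hAy : A y = 0) :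
    (∃ K : Subgroup G, K.index = 13) ∧ ∃ v : G, v * v = 1 ∧ v ≠ 1 ∧ v * y * v⁻¹ = y⁻¹ := by
  classical
  haveI : Fact (Nat.Prime 3) := ⟨by norm_num⟩
  have hy1 : y ≠ 1 := fun e => by rw [e, orderOf_one] at hy3; norm_num at hy3
  have hmove : ∀ P : Sylow 3 G, ∃ y' ∈ (P : Subgroup G), y' ≠ 1 ∧ A y' = 0 := by
    intro P
    obtain ⟨R₀, hR⟩ := (IsPGroup.of_card (n := 1) (G := zpowers y) (by rw [Nat.card_zpowers, hy3, pow_one])).exists_le_sylow
    obtain ⟨a, ha⟩ := MulAction.exists_smul_eq G R₀ P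
    refine ⟨a * y * a⁻¹, ?_, fun e => hy1 (conj_eq_one_iff.1 e), ?_⟩
    · rw [← ha]
      exact smul_mem_pointwise_smul y (MulAut.conj a) _ (hR (mem_zpowers y))
    · rw [CfsgLib.Char.IsIrrCharacter.isClassFunction D.irrA y a, hAy]
  have hcard : ∀ P : Sylow 3 G, Nat.card (P : Subgroup G) = 3 ^ (2 + 1) := fun P =>
    CfsgLib.SmallSimple.card_sylow_eq P (k := 3) (m := 208) (by rw [hn]; norm_num) (by norm_num)
  refine ⟨?_, ?_⟩
  swap
  · obtain ⟨P, hP⟩ := (IsPGroup.of_card (n := 1) (G := zpowers y) (by rw [Nat.card_zpowers, hy3, pow_one])).exists_le_sylow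
    have hyP := hP (mem_zpowers y)
    obtain ⟨w, t, hwo, hwH, hyw, hwc, -, -, -, htC, hto, hkey, hconj, -⟩ := sylow_data hG hn D hg hCg P hyP hy1 hAy
    obtain ⟨b, hb⟩ := hkey y hyP hyw
    obtain ⟨q, -, hq⟩ := hconj y hyP hyw b
    have htt : t * t = 1 := by rw [← sq, ← hto, pow_orderOf_eq_one]
    have hw3 : w ^ 3 = 1 := hwo ▸ pow_orderOf_eq_one w
    have hyb : Commute y (w ^ b) := Commute.pow_right (hwc y hyP) b
    refine ⟨q⁻¹ * t * q, ?_, fun e => ?_, ?_⟩
    · calc q⁻¹ * t * q * (q⁻¹ * t * q) = q⁻¹ * (t * t) * q := by group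
        _ = 1 := by rw [htt, mul_one, inv_mul_cancel]
    · have : t = 1 := by
        calc t = q * (q⁻¹ * t * q) * q⁻¹ := by group
          _ = 1 := by rw [e, mul_one, mul_inv_cancel]
      rw [this, orderOf_one] at hto
      norm_num at hto
    · have htw : t * w ^ b * t⁻¹ = w ^ b := mul_inv_eq_iff_eq_mul.2
        (Commute.pow_right (show Commute t w from mem_centralizer_singleton_iff.1 htC) b).eq
      have h1 : t * (y * w ^ b) * t⁻¹ = (y * w ^ b)⁻¹ := by
        rw [show t * (y * w ^ b) * t⁻¹ = (t * y * t⁻¹) * (t * w ^ b * t⁻¹) by group, hb, htw,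
          mul_assoc, mul_inv_rev]
        have : w ^ b * w ^ b = (w ^ b)⁻¹ := eq_inv_of_mul_eq_one_left (by
          rw [← pow_add, ← pow_add, show b + b + b = 3 * b by ring, pow_mul, hw3, one_pow])
        rw [this, (Commute.inv_inv hyb).eq]
      calc q⁻¹ * t * q * y * (q⁻¹ * t * q)⁻¹ = q⁻¹ * (t * (q * y * q⁻¹) * t⁻¹) * q := by group
        _ = q⁻¹ * (q * y * q⁻¹)⁻¹ * q := by rw [hq, h1]
        _ = y⁻¹ := by group
  -- the number of Sylow 3-subgroups
  obtain ⟨P₁⟩ : Nonempty (Sylow 3 G) := inferInstance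
  set k := Nat.card (Sylow 3 G) with hk
  have hN54 : ∀ P : Sylow 3 G, 54 ∣ Nat.card (normalizer ((P : Subgroup G) : Set G)) := fun P => by
    obtain ⟨y', h1, h2, h3⟩ := hmove P
    obtain ⟨w, t, -, -, -, -, hCw, -, hNC, -⟩ := sylow_data hG hn D hg hCg P h1 h2 h3
    exact hCw ▸ card_dvd_of_le hNC
  have hmul := CfsgLib.SmallSimple.card_sylow_mul P₁
  rw [hn, ← hk] at hmul
  obtain ⟨j, hj⟩ := hN54 P₁
  rw [hj] at hmul
  have hk104 : k ∈ Nat.divisors 104 := Nat.mem_divisors.2 ⟨⟨j, by linarith⟩, by norm_num⟩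
  have hkmod : k % 3 = 1 := Eq.trans (card_sylow_modEq_one 3 G) (by norm_num)
  have hidx : k = (normalizer ((P₁ : Subgroup G) : Set G)).index := Sylow.card_eq_index_normalizer P₁
  have key : ∀ k ∈ Nat.divisors 104, k % 3 = 1 → k = 1 ∨ k = 4 ∨ k = 13 ∨ k = 52 := by decide +kernel
  rcases key k hk104 hkmod with h | h | h | h
  · exact absurd h (CfsgLib.SmallSimple.card_sylow_ne_one P₁ (by rw [hcard]; norm_num) (by rw [hcard, hn]; norm_num))
  · have hne : normalizer ((P₁ : Subgroup G) : Set G) ≠ ⊤ := fun e => by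
      rw [e, index_top, h] at hidx
      norm_num at hidx
    exact (not_index_dvd hne hn (hidx.symm.trans h) (by norm_num [Nat.factorial])).elim
  · exact ⟨_, hidx.symm.trans h⟩
  -- fifty-two Sylow subgroups
  obtain ⟨P, R₀, E, hne, hE, hEP, hER, hPX, hRX⟩ := exists_intersection (a := 2) hcard (by rw [← hk, h]; norm_num)
  obtain ⟨y', hy'P, hy'1, hy'A⟩ := hmove P
  obtain ⟨w, t, hwo, hwH, -, hwc, hCw, hPw, hNC, htC, hto, hkey, hconj, hnine⟩ :=
    sylow_data hG hn D hg hCg P hy'P hy'1 hy'A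
  set X := normalizer (E : Set G)
  set Cw := centralizer ({w} : Set G)
  have hPc : Nat.card (P : Subgroup G) = 27 := by rw [hcard]; norm_num
  have hEcomm : ∀ a ∈ E, ∀ b ∈ E, a * b = b * a := fun a ha b hb =>
    congrArg Subtype.val ((IsPGroup.isMulCommutative_of_card_eq_prime_sq (p := 3) hE).is_comm.comm (⟨a, ha⟩ : E) ⟨b, hb⟩)
  have hwE : w ∈ E := by
    by_contra hwE
    have hp : ∀ p ∈ E, p ∈ zpowers w := fun p hp => by
      by_contra hpw
      have hle : E ≤ (P : Subgroup G) ⊓ centralizer ({p} : Set G) := fun x hx =>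
        ⟨hEP hx, mem_centralizer_singleton_iff.2 (hEcomm x hx p hp)⟩
      have heq := eq_of_le_of_card_ge hle (by rw [hnine p (hEP hp) hpw, hE]; norm_num)
      exact hwE (heq.ge ⟨hwH, mem_centralizer_singleton_iff.2 (hwc p (hEP hp)).symm⟩)
    have := card_le_of_le (fun p hp' => hp p hp' : E ≤ zpowers w)
    rw [hE, Nat.card_zpowers, hwo] at this
    norm_num at this
  have hwzE : zpowers w ≤ E := zpowers_le.2 hwE
  have htX : t ∈ X := by
    refine mem_norm fun p hp => ?_
    by_cases hpw : p ∈ zpowers w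
    · obtain ⟨i, rfl⟩ := hpw
      refine hwzE ⟨i, (mul_inv_eq_iff_eq_mul.2 ?_).symm⟩
      exact (Commute.zpow_right (show Commute t w from mem_centralizer_singleton_iff.1 htC) i).eq
    · obtain ⟨b, hb⟩ := hkey p (hEP hp) hpw
      rw [hb]
      exact E.mul_mem (E.inv_mem hp) (E.pow_mem hwE b)
  have hCX : Cw ≤ X := by
    have hle : (P : Subgroup G) ⊔ zpowers t ≤ X ⊓ Cw := sup_le (le_inf hPX hPw)
      (zpowers_le.2 ⟨htX, htC⟩)
    have h27 : 27 ∣ Nat.card (X ⊓ Cw : Subgroup G) := hPc ▸ card_dvd_of_le (le_sup_left.trans hle)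
    have h2 : 2 ∣ Nat.card (X ⊓ Cw : Subgroup G) := by
      have := card_dvd_of_le (le_sup_right.trans hle)
      rwa [Nat.card_zpowers, hto] at this
    have h54 : 54 ∣ Nat.card (X ⊓ Cw : Subgroup G) :=
      Nat.Coprime.mul_dvd_of_dvd_of_dvd (by norm_num : Nat.Coprime 2 27) h2 h27
    exact inf_eq_right.1 (eq_of_le_of_card_ge inf_le_right (by rw [hCw]; exact Nat.le_of_dvd Nat.card_pos h54))
  -- the orbit of `w`
  obtain ⟨x, hxX, hxw⟩ : ∃ x ∈ X, x * w * x⁻¹ ∉ zpowers w := by
    by_contra hall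
    push Not at hall
    refine hne (Sylow.ext (eq_of_le_of_card_ge (fun r hr => ?_) (by rw [hPc, hcard]; norm_num)).symm)
    have hr27 : r ^ 3 ^ 3 = 1 := by
      have := congrArg Subtype.val (pow_card_eq_one' (x := (⟨r, hr⟩ : (R₀ : Subgroup G))))
      rwa [hcard] at this
    obtain ⟨i, hi⟩ := mem_powers_iff_mem_zpowers.2 (hall r (hRX hr))
    simp only at hi
    have hrw : r * w ^ i * r⁻¹ = (w ^ i) ^ i := by rw [← conj_pow, hi]
    have hi3 : i % 3 = 1 ∨ i % 3 = 2 := by
      by_contra h0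
      have hi' : r * w * r⁻¹ = 1 := by
        have : w ^ i = 1 := by rw [← pow_mod_orderOf, hwo, show i % 3 = 0 by omega, pow_zero]
        exact hi.symm.trans this
      rw [conj_eq_one_iff] at hi'
      rw [hi', orderOf_one] at hwo
      norm_num at hwo
    have hr2 : r ^ 2 * w * (r ^ 2)⁻¹ = w := by
      calc r ^ 2 * w * (r ^ 2)⁻¹ = r * (r * w * r⁻¹) * r⁻¹ := by rw [sq]; group
        _ = (w ^ i) ^ i := by rw [show r * w * r⁻¹ = w ^ i from hi.symm, hrw]
        _ = w := by
          rw [← pow_mul, ← pow_mod_orderOf, hwo, Nat.mul_mod]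
          rcases hi3 with h | h <;> simp [h]
    have hrC : r ∈ Cw := by
      have h2 : r ^ 2 ∈ Cw := mem_centralizer_singleton_iff.2 (mul_inv_eq_iff_eq_mul.1 hr2)
      have := Cw.pow_mem h2 14
      rwa [← pow_mul, show 2 * 14 = 3 ^ 3 + 1 by norm_num, pow_succ, hr27, one_mul] at this
    exact CfsgLib.SmallSimple.mem_sylow_of_smul_eq (n := 3) hr27 P
      (Sylow.smul_eq_iff_mem_normalizer.2 (hNC hrC))
  set d := x * w * x⁻¹ with hd
  have hdE : d ∈ E := (mem_normalizer_iff.1 hxX w).1 hwE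
  have hd3 : d ^ 3 = 1 := by
    rw [hd, conj_pow, ← hwo, pow_orderOf_eq_one, mul_one, mul_inv_cancel]
  let act : MulAction X E :=
    { smul := fun a e => ⟨(a : G) * e * (a : G)⁻¹, (mem_normalizer_iff.1 a.2 e).1 e.2⟩
      one_smul := fun e => Subtype.ext (show (1 : G) * e * (1 : G)⁻¹ = e by simp)
      mul_smul := fun a b e => Subtype.ext (show ((a : G) * b) * e * ((a : G) * b)⁻¹ =
        a * ((b : G) * e * (b : G)⁻¹) * (a : G)⁻¹ by group) }
  set w₀ : E := ⟨w, hwE⟩
  have hstab : Nat.card (MulAction.stabilizer X w₀) = 54 := by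
    rw [← hCw]
    refine Nat.card_congr ⟨fun a => ⟨(a.1 : G), mem_centralizer_singleton_iff.2
      (mul_inv_eq_iff_eq_mul.1 (congrArg Subtype.val a.2))⟩, fun c => ⟨⟨c, hCX c.2⟩, Subtype.ext
      (mul_inv_eq_iff_eq_mul.2 (mem_centralizer_singleton_iff.1 c.2))⟩, fun a => rfl, fun c => rfl⟩
  haveI := Fintype.ofFinite X
  haveI := Fintype.ofFinite E
  haveI := Fintype.ofFinite (MulAction.stabilizer X w₀)
  have horb := MulAction.card_orbit_mul_card_stabilizer_eq_card_group X w₀
  rw [← Nat.card_eq_fintype_card, ← Nat.card_eq_fintype_card, ← Nat.card_eq_fintype_card, hstab] at horb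
  set O := Finset.univ.filter fun e : E => e ∈ MulAction.orbit X w₀
  have hO : Nat.card (MulAction.orbit X w₀) = O.card := by
    rw [← Nat.card_eq_finsetCard]
    exact Nat.card_congr (Equiv.subtypeEquivRight fun e => by simp [O])
  rw [hO] at horb
  have hXi : Nat.card X * X.index = 5616 := X.card_mul_index.trans hn
  have hO104 : O.card ∈ Nat.divisors 104 := Nat.mem_divisors.2 ⟨⟨X.index, by rw [← horb] at hXi; linarith⟩, by norm_num⟩
  have hO8 : O.card ≤ 8 := by
    have h1 : O ⊆ Finset.univ.erase (1 : E) := fun e he => by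
      refine Finset.mem_erase.2 ⟨fun h1 => ?_, Finset.mem_univ _⟩
      obtain ⟨a, ha⟩ := (Finset.mem_filter.1 he).2
      rw [h1] at ha
      have : (a : G) * w * (a : G)⁻¹ = 1 := congrArg Subtype.val ha
      rw [conj_eq_one_iff] at this
      rw [this, orderOf_one] at hwo
      norm_num at hwo
    have := Finset.card_le_card h1
    rw [Finset.card_erase_of_mem (Finset.mem_univ _), Finset.card_univ, ← Nat.card_eq_fintype_card, hE] at this
    omega
  set d₀ : E := ⟨d, hdE⟩
  have hdorb : d₀ ∈ MulAction.orbit X w₀ := ⟨⟨x, hxX⟩, rfl⟩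
  have hsub : ({w₀, d₀, d₀ * w₀, d₀ * w₀ ^ 2} : Finset E) ⊆ O := by
    have hmem : ∀ i : ℕ, d₀ * w₀ ^ i ∈ MulAction.orbit X w₀ := fun i => by
      obtain ⟨q, hq, hqd⟩ := hconj d (hEP hdE) hxw i
      refine ⟨⟨q * x, X.mul_mem (hPX hq) hxX⟩, Subtype.ext ?_⟩
      show q * x * w * (q * x)⁻¹ = d * w ^ i
      rw [← hqd, hd]; group
    intro e he
    simp only [Finset.mem_insert, Finset.mem_singleton] at he
    refine Finset.mem_filter.2 ⟨Finset.mem_univ _, ?_⟩
    rcases he with rfl | rfl | rfl | rfl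
    · exact MulAction.mem_orbit_self _
    · exact hdorb
    · simpa using hmem 1
    · exact hmem 2
  have hw3' : w₀ ^ 3 = 1 := Subtype.ext (by simpa [w₀] using (hwo ▸ pow_orderOf_eq_one w : w ^ 3 = 1))
  have hdw : ∀ i : ℕ, d₀ * w₀ ^ i ≠ w₀ := fun i e => hxw (by
    have : d * w ^ i = w := congrArg Subtype.val e
    rw [eq_mul_inv_of_mul_eq this]
    exact mul_mem (mem_zpowers w) (inv_mem (pow_mem (mem_zpowers w) i)))
  have hw01 : w₀ ≠ 1 := fun e => by
    have : w = 1 := congrArg Subtype.val e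
    rw [this, orderOf_one] at hwo
    norm_num at hwo
  have hwsq : w₀ ^ 2 ≠ 1 := fun e => hw01 (by
    calc w₀ = w₀ ^ 3 * (w₀ ^ 2)⁻¹ := by group
      _ = 1 := by rw [hw3', e, inv_one, mul_one])
  have hn12 : d₀ * w₀ ≠ d₀ * w₀ ^ 2 := fun e => hw01 (by
    have := mul_left_cancel e
    rw [sq] at this
    exact left_eq_mul.1 this)
  have h4 : ({w₀, d₀, d₀ * w₀, d₀ * w₀ ^ 2} : Finset E).card = 4 := by
    rw [Finset.card_insert_of_notMem, Finset.card_insert_of_notMem, Finset.card_pair hn12]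
    · simp only [Finset.mem_insert, Finset.mem_singleton, not_or]
      exact ⟨by simpa using hw01, by simpa using hwsq⟩
    · simp only [Finset.mem_insert, Finset.mem_singleton, not_or]
      exact ⟨fun e => hdw 0 (by simpa using e.symm), fun e => hdw 1 (by simpa using e.symm),
        fun e => hdw 2 e.symm⟩
  have hge := Finset.card_le_card hsub
  rw [h4] at hge
  have key2 : ∀ k ∈ Nat.divisors 104, 4 ≤ k → k ≤ 8 → k = 4 ∨ k = 8 := by decide +kernel
  rcases key2 _ hO104 hge hO8 with h' | h'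
  · exfalso
    have hOeq := Finset.eq_of_subset_of_card_le hsub (by rw [h', h4])
    letI : CommGroup E := { (inferInstance : Group E) with mul_comm := fun a b => Subtype.ext (hEcomm a a.2 b b.2) }
    have hprod : ∏ e ∈ O, e = w₀ := by
      rw [← hOeq, Finset.prod_insert, Finset.prod_insert, Finset.prod_pair hn12]
      · have hd3' : d₀ ^ 3 = 1 := Subtype.ext (by simpa [d₀] using hd3)
        calc w₀ * (d₀ * (d₀ * w₀ * (d₀ * w₀ ^ 2))) = d₀ ^ 3 * w₀ ^ 3 * w₀ := by
              simp only [pow_succ, pow_zero, one_mul, mul_comm, mul_left_comm, mul_assoc]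
          _ = w₀ := by rw [hd3', hw3', one_mul, one_mul]
      · simp only [Finset.mem_insert, Finset.mem_singleton, not_or]
        exact ⟨by simpa using hw01, by simpa using hwsq⟩
      · simp only [Finset.mem_insert, Finset.mem_singleton, not_or]
        exact ⟨fun e => hdw 0 (by simpa using e.symm), fun e => hdw 1 (by simpa using e.symm),
          fun e => hdw 2 e.symm⟩
    let ψ : E →* E := MonoidHom.mk' (fun e => (⟨x, hxX⟩ : X) • e) fun a b => Subtype.ext (by
      show x * ((a : G) * b) * x⁻¹ = (x * a * x⁻¹) * (x * b * x⁻¹)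
      group)
    have himg : O.image (fun e => (⟨x, hxX⟩ : X) • e) = O := by
      refine Finset.eq_of_subset_of_card_le (fun e he => ?_)
        (by rw [Finset.card_image_of_injective _ (MulAction.injective _)])
      obtain ⟨e', he', rfl⟩ := Finset.mem_image.1 he
      exact Finset.mem_filter.2 ⟨Finset.mem_univ _,
        MulAction.mem_orbit_of_mem_orbit _ (Finset.mem_filter.1 he').2⟩
    have hfix : (⟨x, hxX⟩ : X) • w₀ = w₀ := by
      conv_rhs => rw [← hprod, ← himg, Finset.prod_image ((MulAction.injective _).injOn)]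
      conv_lhs => rw [← hprod]
      exact map_prod ψ _ _
    have : d = w := congrArg Subtype.val hfix
    exact hxw (this ▸ mem_zpowers w)
  · refine ⟨X, ?_⟩
    rw [h'] at horb
    rw [← horb] at hXi
    omega

end CfsgLib.L33Order
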