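import Mathlib

/-!
# The column of an element of order thirteen in a simple group of order 5616

A code records the multiplicities of the thirteenth roots of unity: the trivial one and the four
orbits of multiplication by three.  The codes of nonzero weight are determined by three sums.
-/

set_option autoImplicit false

namespace CfsgLib.L33Order

/-- Codes. -/
abbrev Code : Type := ℕ × ℕ × ℕ × ℕ × ℕ

/-- The Galois shift. -/
def crot : Code → Code
  | (a, b, c, d, e) => (a, c, d, e, b)

theorem crot_injective : Function.Injective crot := by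
  rintro ⟨a, b, c, d, e⟩ ⟨a', b', c', d', e'⟩ h
  simp only [crot, Prod.mk.injEq] at h
  simp only [Prod.mk.injEq]
  tauto

/-- The degree. -/
def cdeg : Code → ℕ
  | (a, b, c, d, e) => a + 3 * (b + c + d + e)

/-- The weight. -/
def cwt : Code → ℤ
  | (a, b, c, d, e) => 13 * ((a : ℤ) * a + 3 * ((b : ℤ) * b + (c : ℤ) * c + (d : ℤ) * d + (e : ℤ) * e))
      - (cdeg (a, b, c, d, e) : ℤ) * cdeg (a, b, c, d, e)

/-- The square of the degree. -/
def csq (v : Code) : ℤ := (cdeg v : ℤ) * cdeg v

/-- The contribution to the orthogonality with the identity. -/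
def clin (v : Code) : ℤ := (cdeg v : ℤ) * ((cdeg v : ℤ) - 13 * (v.1 : ℤ))

/-- The possible degrees. -/
def degs : List ℕ := [2, 3, 4, 6, 8, 9, 12, 13, 16, 18, 24, 26, 27, 36, 39, 48, 52, 54, 72]

/-- Representatives of the orbits, with their lengths. -/
def heads : List (Code × ℕ) :=
  [((1, 0, 0, 0, 1), 4), ((0, 0, 1, 1, 1), 4), ((3, 3, 4, 4, 4), 4), ((2, 0, 1, 0, 1), 2), ((0, 1, 2, 1, 2), 2),
    ((3, 2, 3, 3, 3), 4), ((0, 0, 0, 0, 1), 4), ((1, 1, 1, 1, 2), 4), ((3, 0, 0, 0, 0), 1), ((4, 1, 1, 1, 1), 1),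
    ((0, 3, 3, 3, 3), 1), ((6, 5, 6, 5, 6), 2), ((0, 0, 1, 0, 1), 2), ((2, 0, 0, 0, 0), 1), ((6, 4, 4, 4, 4), 1),
    ((0, 2, 2, 2, 2), 1), ((3, 2, 2, 2, 2), 1), ((0, 1, 1, 1, 1), 1)]

/-- The orbits. -/
def orbits : List (List Code) := heads.map fun h => (List.range h.2).map fun i => crot^[i] h.1

theorem orbits_nodup : orbits.flatten.Nodup := by decide +kernel

theorem orbits_iterate : ∀ o ∈ orbits, ∀ v ∈ o, ∃ i : Fin 4, crot^[i.1] (o.headD (0, 0, 0, 0, 0)) = v := by
  decide +kernel

/-- A deviation as a number. -/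
def dev (i : ℕ) : ℤ := (i : ℤ) - 6

/-- The test for one tuple of deviations and one degree. -/
def covered (x y z w : ℤ) (d : ℕ) : Bool :=
  let num : ℤ := (d : ℤ) - 3 * (x + y + z + w)
  let m : ℤ := num / 13
  !(num % 13 == 0 && decide (0 ≤ m) && decide (0 ≤ m + x) && decide (0 ≤ m + y) && decide (0 ≤ m + z) &&
      decide (0 ≤ m + w) && m != (d : ℤ)) ||
    orbits.flatten.contains (m.toNat, (m + x).toNat, (m + y).toNat, (m + z).toNat, (m + w).toNat)

theorem covered_all : ((List.range 13).all fun i => (List.range 13).all fun j => (List.range 13).all fun k =>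
    (List.range 13).all fun l =>
      let x := dev i; let y := dev j; let z := dev k; let w := dev l
      let W : ℤ := 39 * (x * x + y * y + z * z + w * w) - 9 * ((x + y + z + w) * (x + y + z + w))
      let S : ℤ := if x = z ∧ y = w then (if x = y then 1 else 2) else 4
      !(decide (S * W ≤ 144) && W != 0) || degs.all fun d => covered x y z w d) = true := by
  decide +kernel

theorem cwt_eq (a b c d e : ℕ) : cwt (a, b, c, d, e) =
    39 * (((b : ℤ) - a) * (b - a) + ((c : ℤ) - a) * (c - a) + ((d : ℤ) - a) * (d - a) + ((e : ℤ) - a) * (e - a)) -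
      9 * ((((b : ℤ) - a) + (c - a) + (d - a) + (e - a)) * (((b : ℤ) - a) + (c - a) + (d - a) + (e - a))) := by
  simp only [cwt, cdeg]
  push_cast
  ring

theorem mem_flatten {v : Code} (hd : cdeg v ∈ degs) (hne : cdeg v ≠ v.1) (h0 : cwt v ≠ 0) (hB : cwt v ≤ 144)
    (h4 : crot (crot v) ≠ v → 4 * cwt v ≤ 144) (h2 : crot v ≠ v → 2 * cwt v ≤ 144) :
    v ∈ orbits.flatten := by
  obtain ⟨a, b, c, d, e⟩ := v
  rw [cwt_eq] at h0 hB h4 h2
  simp only [crot, ne_eq, Prod.mk.injEq, true_and] at h4 h2
  set x : ℤ := (b : ℤ) - a with hxd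
  set y : ℤ := (c : ℤ) - a with hyd
  set z : ℤ := (d : ℤ) - a with hzd
  set w : ℤ := (e : ℤ) - a with hwd
  have key : 3 * (x * x + y * y + z * z + w * w) ≤ 144 := by
    nlinarith [sq_nonneg (x - y), sq_nonneg (x - z), sq_nonneg (x - w), sq_nonneg (y - z), sq_nonneg (y - w),
      sq_nonneg (z - w)]
  have bound : ∀ u : ℤ, u * u ≤ 48 → -6 ≤ u ∧ u ≤ 6 := fun u hu => ⟨by nlinarith, by nlinarith⟩
  have hx := bound x (by nlinarith [mul_self_nonneg y, mul_self_nonneg z, mul_self_nonneg w])
  have hy := bound y (by nlinarith [mul_self_nonneg x, mul_self_nonneg z, mul_self_nonneg w])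
  have hz := bound z (by nlinarith [mul_self_nonneg x, mul_self_nonneg y, mul_self_nonneg w])
  have hw := bound w (by nlinarith [mul_self_nonneg x, mul_self_nonneg y, mul_self_nonneg z])
  have h := covered_all
  simp only [List.all_eq_true, List.mem_range, Bool.or_eq_true, Bool.not_eq_true', Bool.and_eq_false_iff,
    decide_eq_false_iff_not, bne_eq_false_iff_eq] at h
  have h' := h (x + 6).toNat (by omega) (y + 6).toNat (by omega) (z + 6).toNat (by omega) (w + 6).toNat (by omega)
  have hdev : ∀ u : ℤ, -6 ≤ u → dev (u + 6).toNat = u := fun u hu => by rw [dev]; omega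
  rw [hdev x hx.1, hdev y hy.1, hdev z hz.1, hdev w hw.1] at h'
  rcases h' with h' | h'
  · rcases h' with h' | h'
    · refine absurd ?_ h'
      split_ifs with e1 e2
      · rwa [one_mul]
      · exact h2 fun h => e2 (by omega)
      · exact h4 fun h => e1 (by omega)
    · exact absurd h' h0
  have hc := h' _ hd
  have hnum : ((cdeg (a, b, c, d, e) : ℕ) : ℤ) - 3 * (x + y + z + w) = 13 * a := by
    simp only [cdeg, x, y, z, w]
    push_cast
    ring
  have hm : (((cdeg (a, b, c, d, e) : ℕ) : ℤ) - 3 * (x + y + z + w)) / 13 = a := by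
    rw [hnum]; omega
  simp only [covered, hm, Bool.or_eq_true, List.contains_eq_mem, decide_eq_true_eq] at hc
  rcases hc with hc | hc
  · exfalso
    simp only [Bool.not_eq_true', Bool.and_eq_false_iff, beq_eq_false_iff_ne, decide_eq_false_iff_not,
      bne_eq_false_iff_eq] at hc
    have hmod : (((cdeg (a, b, c, d, e) : ℕ) : ℤ) - 3 * (x + y + z + w)) % 13 = 0 := by rw [hnum]; omega
    rcases hc with ((((((hc | hc) | hc) | hc) | hc) | hc) | hc)
    all_goals first
      | exact hc hmod
      | exact hc (by omega)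
      | exact hne (by dsimp only; omega)
  · have e1 : ((a, b, c, d, e) : Code) =
        ((a : ℤ).toNat, ((a : ℤ) + x).toNat, ((a : ℤ) + y).toNat, ((a : ℤ) + z).toNat, ((a : ℤ) + w).toNat) := by
      simp only [Prod.mk.injEq]
      omega
    rw [e1]
    exact hc

/-- The three sums of the orbits. -/
def sums (o : List Code) : ℤ × ℤ × ℤ := ((o.map cwt).sum, (o.map csq).sum, (o.map clin).sum)

/-- All multiplicity vectors with the right sums. -/
def solve : List (ℤ × ℤ × ℤ) → ℤ → ℤ → ℤ → List (List ℕ)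
  | [], w, q, l => if w = 144 ∧ l = 12 ∧ (5615 - q) % 169 = 0 then [[]] else []
  | x :: xs, w, q, l => (List.range 13).flatMap fun k : ℕ =>
      if w + k * x.1 ≤ 144 ∧ q + k * x.2.1 ≤ 5615 then
        (solve xs (w + k * x.1) (q + k * x.2.1) (l + k * x.2.2)).map (k :: ·) else []

theorem solve_orbits : solve (orbits.map sums) 0 0 0 =
    [[0, 0, 0, 0, 0, 0, 0, 1, 0, 0, 0, 0, 0, 0, 0, 0, 1, 1]] := by
  decide +kernel

theorem sums_bounds : ∀ x ∈ orbits.map sums, 12 ≤ x.1 ∧ 0 ≤ x.2.1 := by decide +kernel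

/-- A combination of a list. -/
def comb (ks : List ℕ) (F : List ℤ) : ℤ := (List.zipWith (fun (k : ℕ) (f : ℤ) => (k : ℤ) * f) ks F).sum

theorem comb_nonneg : ∀ (ks : List ℕ) (F : List ℤ), (∀ f ∈ F, 0 ≤ f) → 0 ≤ comb ks F
  | [], _, _ => by simp [comb]
  | _ :: _, [], _ => by simp [comb]
  | k :: ks, f :: F, h => by
    have h1 := comb_nonneg ks F fun g hg => h g (List.mem_cons_of_mem _ hg)
    have h2 : 0 ≤ (k : ℤ) * f := mul_nonneg (Int.natCast_nonneg k) (h f (by simp))
    simp only [comb, List.zipWith_cons_cons, List.sum_cons] at h1 ⊢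
    linarith

theorem solve_spec : ∀ (xs : List (ℤ × ℤ × ℤ)) (ks : List ℕ) (w q l : ℤ), ks.length = xs.length →
    (∀ x ∈ xs, 12 ≤ x.1 ∧ 0 ≤ x.2.1) → 0 ≤ w → w + comb ks (xs.map (·.1)) = 144 →
    q + comb ks (xs.map (·.2.1)) ≤ 5615 → (5615 - (q + comb ks (xs.map (·.2.1)))) % 169 = 0 →
    l + comb ks (xs.map (·.2.2)) = 12 → ks ∈ solve xs w q l := by
  intro xs
  induction xs with
  | nil =>
    intro ks w q l hlen _ _ h1 h2 h3 h4
    obtain rfl := List.length_eq_zero_iff.1 hlen
    simp [comb] at h1 h2 h3 h4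
    simp [solve, h1, h3, h4]
  | cons x xs ih =>
    intro ks w q l hlen hb hw h1 h2 h3 h4
    obtain ⟨k, ks, rfl⟩ : ∃ k ks', ks = k :: ks' := List.exists_cons_of_length_eq_add_one hlen
    obtain ⟨hx1, hx2⟩ := hb x (by simp)
    have hb' := fun y hy => hb y (List.mem_cons_of_mem x hy)
    have n1 := comb_nonneg ks (xs.map (·.1)) fun f hf => by
      obtain ⟨y, hy, rfl⟩ := List.mem_map.1 hf
      linarith [(hb' y hy).1]
    have n2 := comb_nonneg ks (xs.map (·.2.1)) fun f hf => by
      obtain ⟨y, hy, rfl⟩ := List.mem_map.1 hf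
      exact (hb' y hy).2
    simp only [comb, List.map_cons, List.zipWith_cons_cons, List.sum_cons] at h1 h2 h3 h4 n1 n2
    rw [solve, List.mem_flatMap]
    refine ⟨k, List.mem_range.2 ?_, ?_⟩
    · have : (k : ℤ) * 12 ≤ k * x.1 := mul_le_mul_of_nonneg_left hx1 (Int.natCast_nonneg k)
      omega
    · rw [if_pos ⟨by linarith, by linarith⟩]
      refine List.mem_map.2 ⟨ks, ih ks _ _ _ (by simpa using hlen) hb' ?_ ?_ ?_ ?_ ?_, rfl⟩
      · have : 0 ≤ (k : ℤ) * x.1 := mul_nonneg (Int.natCast_nonneg k) (by linarith)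
        linarith
      all_goals simp only [comb]
      · linarith
      · linarith
      · rw [show q + (k : ℤ) * x.2.1 + (List.zipWith (fun (k : ℕ) (f : ℤ) => (k : ℤ) * f) ks (List.map (·.2.1) xs)).sum =
          q + ((k : ℤ) * x.2.1 + (List.zipWith (fun (k : ℕ) (f : ℤ) => (k : ℤ) * f) ks (List.map (·.2.1) xs)).sum) by ring]
        exact h3
      · linarith

/-- A shift-invariant multiset on disjoint orbits is a combination of them. -/
theorem eq_comb : ∀ (L : List (List Code)) (f : Multiset Code), L.flatten.Nodup →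
    (∀ o ∈ L, ∀ v ∈ o, f.count v = f.count (o.headD (0, 0, 0, 0, 0))) → (∀ v ∈ f, v ∈ L.flatten) →
    f = (L.map fun o : List Code => f.count (o.headD (0, 0, 0, 0, 0)) • (o : Multiset Code)).sum := by
  classical
  intro L
  induction L with
  | nil => intro f _ _ h; simpa using Multiset.eq_zero_of_forall_notMem fun v hv => by simpa using h v hv
  | cons o L ih =>
    intro f hnd hc hm
    rw [List.flatten_cons, List.nodup_append] at hnd
    obtain ⟨hno, hnL, hdis⟩ := hnd
    set f₂ := f.filter fun v => v ∉ o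
    have hsplit : f = f.filter (fun v => v ∈ o) + f₂ := (Multiset.filter_add_not _ f).symm
    have h1 : f.filter (fun v => v ∈ o) = f.count (o.headD (0, 0, 0, 0, 0)) • (o : Multiset Code) := by
      ext v
      rw [Multiset.count_filter, Multiset.count_nsmul]
      by_cases hv : v ∈ o
      · rw [if_pos hv, Multiset.count_eq_one_of_mem (Multiset.coe_nodup.2 hno) (Multiset.mem_coe.2 hv), mul_one, hc o (by simp) v hv]
      · rw [if_neg hv, Multiset.count_eq_zero_of_notMem (fun h => hv (Multiset.mem_coe.1 h)), mul_zero]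
    have hcount : ∀ v ∈ L.flatten, f₂.count v = f.count v := fun v hv => by
      rw [Multiset.count_filter, if_pos fun hvo => hdis v hvo v hv rfl]
    have h2 := ih f₂ hnL (fun o' ho' v hv => by
      have hmem : ∀ u ∈ o', u ∈ L.flatten := fun u hu => List.mem_flatten.2 ⟨o', ho', hu⟩
      have hhead : o'.headD (0, 0, 0, 0, 0) ∈ o' := by
        cases o' with
        | nil => simp at hv
        | cons u us => simp
      rw [hcount v (hmem v hv), hcount _ (hmem _ hhead), hc o' (List.mem_cons_of_mem _ ho') v hv])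
      (fun v hv => by
        obtain ⟨h3, h4⟩ := Multiset.mem_filter.1 hv
        exact (List.mem_append.1 (List.flatten_cons ▸ hm v h3)).resolve_left h4)
    rw [List.map_cons, List.sum_cons]
    conv_lhs => rw [hsplit, h1, h2]
    congr 2
    refine List.map_congr_left fun o' ho' => ?_
    cases o' with
    | nil => simp
    | cons u us => rw [List.headD_cons, hcount u (List.mem_flatten.2 ⟨_, ho', by simp⟩)]

theorem sum_comb : ∀ (L : List (List Code)) (F : Code → ℤ) (k : List Code → ℕ),
    (((L.map fun o : List Code => k o • (o : Multiset Code)).sum).map F).sum = comb (L.map k) (L.map fun o => (o.map F).sum)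
  | [], F, k => by simp [comb]
  | o :: L, F, k => by
    have h := sum_comb L F k
    simp only [comb, List.map_cons, List.sum_cons, List.zipWith_cons_cons, Multiset.map_add, Multiset.sum_add,
      Multiset.map_nsmul, Multiset.sum_nsmul, Multiset.map_coe, Multiset.sum_coe, nsmul_eq_mul] at h ⊢
    rw [h]

/-- The codes of nonzero weight. -/
def special : List Code :=
  [(0, 1, 1, 1, 1), (3, 2, 2, 2, 2), (1, 1, 1, 1, 2), (1, 1, 1, 2, 1), (1, 1, 2, 1, 1), (1, 2, 1, 1, 1)]

theorem cwt_nonneg (v : Code) : 0 ≤ cwt v := by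
  obtain ⟨a, b, c, d, e⟩ := v
  rw [cwt_eq]
  nlinarith [sq_nonneg ((b : ℤ) - c), sq_nonneg ((b : ℤ) - d), sq_nonneg ((b : ℤ) - e), sq_nonneg ((c : ℤ) - d),
    sq_nonneg ((c : ℤ) - e), sq_nonneg ((d : ℤ) - e), mul_self_nonneg ((b : ℤ) - a), mul_self_nonneg ((c : ℤ) - a),
    mul_self_nonneg ((d : ℤ) - a), mul_self_nonneg ((e : ℤ) - a)]

/-- A code of weight zero is constant. -/
theorem eq_of_cwt_zero {a b c d e : ℕ} (h : cwt (a, b, c, d, e) = 0) : b = a ∧ c = a ∧ d = a ∧ e = a := by
  rw [cwt_eq] at h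
  have key : ((b : ℤ) - a) * (b - a) + ((c : ℤ) - a) * (c - a) + ((d : ℤ) - a) * (d - a) + ((e : ℤ) - a) * (e - a) ≤ 0 := by
    nlinarith [sq_nonneg ((b : ℤ) - c), sq_nonneg ((b : ℤ) - d), sq_nonneg ((b : ℤ) - e), sq_nonneg ((c : ℤ) - d),
      sq_nonneg ((c : ℤ) - e), sq_nonneg ((d : ℤ) - e)]
  have z : ∀ u : ℤ, u * u ≤ 0 → u = 0 := fun u hu => mul_self_eq_zero.1 (le_antisymm hu (mul_self_nonneg u))
  have h1 := z ((b : ℤ) - a) (by nlinarith [mul_self_nonneg ((c : ℤ) - a), mul_self_nonneg ((d : ℤ) - a), mul_self_nonneg ((e : ℤ) - a)])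
  have h2 := z ((c : ℤ) - a) (by nlinarith [mul_self_nonneg ((b : ℤ) - a), mul_self_nonneg ((d : ℤ) - a), mul_self_nonneg ((e : ℤ) - a)])
  have h3 := z ((d : ℤ) - a) (by nlinarith [mul_self_nonneg ((b : ℤ) - a), mul_self_nonneg ((c : ℤ) - a), mul_self_nonneg ((e : ℤ) - a)])
  have h4 := z ((e : ℤ) - a) (by nlinarith [mul_self_nonneg ((b : ℤ) - a), mul_self_nonneg ((c : ℤ) - a), mul_self_nonneg ((d : ℤ) - a)])
  omega

/-- The codes of nonzero weight are the special ones. -/
theorem filter_eq_special (M : Multiset Code) (hM : M.map crot = M)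
    (hgood : ∀ v ∈ M, cdeg v ∈ degs ∧ cdeg v ≠ v.1) (hw : (M.map cwt).sum = 144)
    (hq : (M.map csq).sum = 5615) (hl : (M.map clin).sum = 12) :
    M.filter (fun v => cwt v ≠ 0) = (special : Multiset Code) := by
  classical
  set f := M.filter fun v => cwt v ≠ 0
  set g := M.filter fun v => ¬ cwt v ≠ 0
  have hsplit : M = f + g := (Multiset.filter_add_not _ M).symm
  have hg : ∀ v ∈ g, cwt v = 0 ∧ clin v = 0 ∧ (169 : ℤ) ∣ csq v ∧ 0 ≤ csq v := by
    intro v hv
    obtain ⟨a, b, c, d, e⟩ := v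
    have h0 : cwt (a, b, c, d, e) = 0 := not_not.1 (Multiset.mem_filter.1 hv).2
    obtain ⟨rfl, rfl, rfl, rfl⟩ := eq_of_cwt_zero h0
    refine ⟨h0, ?_, ⟨(e : ℤ) * e, ?_⟩, mul_self_nonneg _⟩
    · simp only [clin, cdeg]; push_cast; ring
    · simp only [csq, cdeg]; push_cast; ring
  have hgw : (g.map cwt).sum = 0 := Multiset.sum_eq_zero fun x hx => by
    obtain ⟨v, hv, rfl⟩ := Multiset.mem_map.1 hx; exact (hg v hv).1
  have hgl : (g.map clin).sum = 0 := Multiset.sum_eq_zero fun x hx => by
    obtain ⟨v, hv, rfl⟩ := Multiset.mem_map.1 hx; exact (hg v hv).2.1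
  have hgq : (169 : ℤ) ∣ (g.map csq).sum := Multiset.dvd_sum fun x hx => by
    obtain ⟨v, hv, rfl⟩ := Multiset.mem_map.1 hx; exact (hg v hv).2.2.1
  have hgq0 : 0 ≤ (g.map csq).sum := Multiset.sum_nonneg fun x hx => by
    obtain ⟨v, hv, rfl⟩ := Multiset.mem_map.1 hx; exact (hg v hv).2.2.2
  rw [hsplit, Multiset.map_add, Multiset.sum_add] at hw hq hl
  rw [hgw, add_zero] at hw
  rw [hgl, add_zero] at hl
  have hwt : ∀ v : Code, cwt (crot v) = cwt v := fun v => by
    obtain ⟨a, b, c, d, e⟩ := v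
    simp only [crot, cwt, cdeg]; push_cast; ring
  have hcrot : ∀ v, f.count (crot v) = f.count v := fun v => by
    rw [Multiset.count_filter, Multiset.count_filter, hwt v]
    congr 1
    conv_lhs => rw [← hM]
    exact Multiset.count_map_eq_count' crot M crot_injective _
  have hiter : ∀ (i : ℕ) v, f.count (crot^[i] v) = f.count v := fun i v => by
    induction i with
    | zero => rfl
    | succ i ih => rw [Function.iterate_succ_apply', hcrot, ih]
  have hmem : ∀ v ∈ f, v ∈ orbits.flatten := fun v hv => by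
    obtain ⟨h1, h2⟩ := Multiset.mem_filter.1 hv
    have hrot : ∀ {u}, u ∈ f → crot u ∈ f := fun {u} hu => by
      rw [← Multiset.one_le_count_iff_mem] at hu ⊢
      rwa [hcrot]
    have hle : ∀ l : List Code, l.Nodup → (∀ u ∈ l, u ∈ f ∧ cwt u = cwt v) → (l.length : ℤ) * cwt v ≤ 144 := by
      intro l hl hsub
      obtain ⟨r, hr⟩ := Multiset.le_iff_exists_add.1
        ((Multiset.le_iff_subset (Multiset.coe_nodup.2 hl)).2 fun u hu => (hsub u (Multiset.mem_coe.1 hu)).1)
      rw [← hw, hr, Multiset.map_add, Multiset.sum_add, Multiset.map_coe, Multiset.sum_coe]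
      have e1 : (l.map cwt).sum = (l.length : ℤ) * cwt v := by
        rw [List.map_congr_left (g := fun _ => cwt v) fun u hu => (hsub u hu).2]
        simp
      rw [e1]
      exact le_add_of_nonneg_right (Multiset.sum_nonneg fun x hx => by
        obtain ⟨u, -, rfl⟩ := Multiset.mem_map.1 hx; exact cwt_nonneg u)
    refine mem_flatten (hgood v h1).1 (hgood v h1).2 h2 ?_ (fun hne => ?_) fun hne => ?_
    · simpa using hle [v] (List.nodup_singleton v) (by simp [hv])
    · have h := hle [v, crot v, crot (crot v), crot (crot (crot v))] (by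
        obtain ⟨a, b, c, d, e⟩ := v
        simp only [crot, ne_eq, Prod.mk.injEq, true_and] at hne
        simp only [crot, List.nodup_cons, List.mem_cons, List.not_mem_nil, Prod.mk.injEq, or_false, not_false_eq_true,
          List.nodup_nil, and_true, true_and]
        omega) (by
        simp only [List.mem_cons, List.not_mem_nil, or_false]
        rintro u (rfl | rfl | rfl | rfl)
        exacts [⟨hv, rfl⟩, ⟨hrot hv, hwt _⟩, ⟨hrot (hrot hv), by rw [hwt, hwt]⟩,
          ⟨hrot (hrot (hrot hv)), by rw [hwt, hwt, hwt]⟩])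
      simpa using h
    · have h := hle [v, crot v] (by simp [Ne.symm hne]) (by
        simp only [List.mem_cons, List.not_mem_nil, or_false]
        rintro u (rfl | rfl)
        exacts [⟨hv, rfl⟩, ⟨hrot hv, hwt _⟩])
      simpa using h
  have hf := eq_comb orbits f orbits_nodup (fun o ho v hv => by
    obtain ⟨i, rfl⟩ := orbits_iterate o ho v hv
    exact hiter _ _) hmem
  set ks := orbits.map fun o => f.count (o.headD (0, 0, 0, 0, 0))
  have hsum : ∀ F : Code → ℤ, (f.map F).sum = comb ks (orbits.map fun o => (o.map F).sum) := fun F => by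
    conv_lhs => rw [hf]
    exact sum_comb _ _ _
  rw [hsum] at hw hl
  rw [hsum] at hq
  have hks := solve_spec (orbits.map sums) ks 0 0 0 (by simp [ks]) sums_bounds le_rfl
    (by rw [List.map_map, zero_add]; exact hw)
    (by rw [List.map_map, zero_add]; exact le_of_le_of_eq (le_add_of_nonneg_right hgq0) hq)
    (by
      rw [List.map_map, zero_add]
      refine Int.emod_eq_zero_of_dvd ?_
      convert hgq using 1
      rw [show ((fun x : ℤ × ℤ × ℤ => x.2.1) ∘ sums) = fun o => (o.map csq).sum from rfl]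
      linarith)
    (by rw [List.map_map, zero_add]; exact hl)
  rw [solve_orbits, List.mem_singleton] at hks
  have hpairs : f = (List.zipWith (fun k (o : List Code) => k • (o : Multiset Code)) ks orbits).sum := by
    conv_lhs => rw [hf]
    simp only [ks, List.zipWith_map_left, List.zipWith_self]
  rw [hpairs, hks]
  decide +kernel

end CfsgLib.L33Order
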